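import Groth.Agent.H06EGA9.FlatFibre
import Groth.Agent.H06Mod.StalkExact

/-!
# Fibrewise flatness does not depend on the base (base change, localisation)
-/

set_option autoImplicit false
set_option linter.style.haveILetI false
universe u

open CategoryTheory CategoryTheory.Limits AlgebraicGeometry TensorProduct IsLocalRing

namespace Groth.Agent.H06EGA9

variable {X Y S X' Y' S' : Scheme.{u}}

/-- The isomorphism of stalks of isomorphic modules. -/
noncomputable def stalkIso {M N : X.Modules} (φ : M ≅ N) (x : X) :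
    M.presheaf.stalk x ≃ₗ[X.presheaf.stalk x] N.presheaf.stalk x :=
  LinearEquiv.ofBijective (H06Mod.stalkLin φ.hom x) (by
    haveI : IsIso φ.hom.mapPresheaf :=
      inferInstanceAs (IsIso ((Scheme.Modules.toPresheaf X).map φ.hom))
    exact ConcreteCategory.bijective_of_isIso ((TopCat.Presheaf.stalkFunctor Ab.{u} x).map φ.hom.mapPresheaf))

theorem isFlatOverAt_congr_iso (f : X ⟶ Y) {M N : X.Modules} (φ : M ≅ N) (x : X) :
    FlatMod.IsFlatOverAt f M x ↔ FlatMod.IsFlatOverAt f N x := by
  letI := FlatMod.moduleStalkOver f M x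
  letI := FlatMod.moduleStalkOver f N x
  exact flat_iff_of_semilinear (RingHom.id (Y.presheaf.stalk (f x))) Function.bijective_id
    (stalkIso φ x).toAddEquiv.toAddMonoidHom (stalkIso φ x).bijective
    fun r m => (stalkIso φ x).map_smul ((f.stalkMap x).hom r) m

theorem fibFlatAt_congr_iso (f : X ⟶ Y) (h : Y ⟶ S) {M N : X.Modules} (φ : M ≅ N) (x : X) :
    FibFlatAt f h M x ↔ FibFlatAt f h N x := by
  letI := FlatMod.moduleStalkOver f M x
  letI := FlatMod.moduleStalkOver f N x
  exact quotFlat_iff_of_bijective _ _ (RingHom.id (Y.presheaf.stalk (f x))) Function.bijective_id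
    (Ideal.map_id _) (stalkIso φ x).toAddEquiv.toAddMonoidHom (stalkIso φ x).bijective
    fun r m => (stalkIso φ x).map_smul ((f.stalkMap x).hom r) m

/-- Flatness at a point is stable under base change by any cartesian square. -/
theorem isFlatOverAt_of_isPullback {f : X ⟶ Y} {f' : X' ⟶ Y'} {jX : X' ⟶ X} {jY : Y' ⟶ Y}
    (hc : IsPullback jX f' f jY) (F : X.Modules) (x' : X')
    (h : FlatMod.IsFlatOverAt f F (jX x')) :
    FlatMod.IsFlatOverAt f' ((Scheme.Modules.pullback jX).obj F) x' := by
  obtain ⟨e, he1, he2⟩ : ∃ e : X' ≅ pullback f jY,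
      e.hom ≫ pullback.fst f jY = jX ∧ e.hom ≫ pullback.snd f jY = f' :=
    ⟨hc.isoPullback, hc.isoPullback_hom_fst, hc.isoPullback_hom_snd⟩
  subst he1; subst he2
  rw [← isFlatOverAt_congr_iso (e.hom ≫ pullback.snd f jY)
    ((Scheme.Modules.pullbackComp e.hom (pullback.fst f jY)).app F) x']
  exact (H06Mod.isFlatOverAt_pullback_iff e.hom (pullback.snd f jY) _ x').2
    (H06Mod.isFlatOverAt_baseChange f jY F (e.hom x') h)

/-- Fibrewise flatness is invariant under any base change. -/
theorem fibFlatAt_baseChange_iff {f : X ⟶ Y} {h : Y ⟶ S} {f' : X' ⟶ Y'} {h' : Y' ⟶ S'}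
    {jX : X' ⟶ X} {jY : Y' ⟶ Y} {jS : S' ⟶ S} (hY : IsPullback jY h' h jS)
    (hX : IsPullback jX f' f jY) (F : X.Modules) (x' : X') :
    FibFlatAt f' h' ((Scheme.Modules.pullback jX).obj F) x' ↔ FibFlatAt f h F (jX x') := by
  let s' := h' (f' x')
  let Ys' := pullback h' (S'.fromSpecResidueField s')
  let Xs' := pullback f' (pullback.fst h' (S'.fromSpecResidueField s'))
  let Ys := pullback h (S.fromSpecResidueField (jS s'))
  let Xs := pullback f (pullback.fst h (S.fromSpecResidueField (jS s')))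
  have hY' := IsPullback.of_hasPullback h' (S'.fromSpecResidueField s')
  have hX' := IsPullback.of_hasPullback f' (pullback.fst h' (S'.fromSpecResidueField s'))
  have hY0 := IsPullback.of_hasPullback h (S.fromSpecResidueField (jS s'))
  have hX0 := IsPullback.of_hasPullback f (pullback.fst h (S.fromSpecResidueField (jS s')))
  let κ := Spec.map (jS.residueFieldMap s')
  have hκ : κ ≫ S.fromSpecResidueField (jS s') = S'.fromSpecResidueField s' ≫ jS :=
    jS.SpecMap_residueFieldMap_fromSpecResidueField s'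
  have hflat : Flat κ := (HasRingHomProperty.Spec_iff (P := @Flat)).mpr (by
    letI := (jS.residueFieldMap s').hom.toAlgebra
    show Module.Flat (S.residueField (jS s')) (S'.residueField s')
    infer_instance)
  have hbig := hY'.paste_horiz hY
  let qY : Ys' ⟶ Ys := hY0.lift (pullback.fst h' _ ≫ jY) (pullback.snd h' _ ≫ κ)
    (by rw [hbig.w, Category.assoc, hκ])
  have hqY : IsPullback qY (pullback.snd h' _) (pullback.snd h _) κ := by
    refine IsPullback.of_right (h₁₂ := pullback.fst h _) (h₂₂ := S.fromSpecResidueField (jS s'))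
      (v₁₃ := h) ?_ ?_ hY0
    · rw [hY0.lift_fst, hκ]; exact hbig
    · exact hY0.lift_snd _ _ _
  have hbigX := hX'.paste_horiz hX
  let qX : Xs' ⟶ Xs := hX0.lift (pullback.fst f' _ ≫ jX) (pullback.snd f' _ ≫ qY)
    (by rw [hbigX.w, Category.assoc, hY0.lift_fst])
  have hqX : IsPullback qX (pullback.snd f' _) (pullback.snd f _) qY := by
    refine IsPullback.of_right (h₁₂ := pullback.fst f _) (h₂₂ := pullback.fst h _)
      (v₁₃ := f) ?_ ?_ hX0
    · rw [hX0.lift_fst, hY0.lift_fst]; exact hbigX
    · exact hX0.lift_snd _ _ _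
  haveI : Flat qY := MorphismProperty.of_isPullback hqY.flip hflat
  haveI : Flat qX := MorphismProperty.of_isPullback hqX.flip ‹Flat qY›
  obtain ⟨z', hz', -⟩ := Scheme.exists_preimage_of_isPullback hX' x'
    (Scheme.exists_preimage_of_isPullback hY' (f' x') (IsLocalRing.closedPoint _)
      (Scheme.fromSpecResidueField_apply s' _).symm).choose
    (Scheme.exists_preimage_of_isPullback hY' (f' x') (IsLocalRing.closedPoint _)
      (Scheme.fromSpecResidueField_apply s' _).symm).choose_spec.1.symm
  rw [← hz', ← isFlatOverAt_fibre_iff hY' hX', show jX (pullback.fst f' _ z') = pullback.fst f _ (qX z') by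
    rw [← Scheme.Hom.comp_apply, ← Scheme.Hom.comp_apply, hX0.lift_fst],
    ← isFlatOverAt_fibre_iff hY0 hX0]
  set G := (Scheme.Modules.pullback (pullback.fst f (pullback.fst h (S.fromSpecResidueField (jS s'))))).obj F
  let φ : (Scheme.Modules.pullback (pullback.fst f' _)).obj ((Scheme.Modules.pullback jX).obj F) ≅
      (Scheme.Modules.pullback qX).obj G :=
    (Scheme.Modules.pullbackComp _ jX).app F ≪≫
      (Scheme.Modules.pullbackCongr (hX0.lift_fst _ _ _).symm).app F ≪≫
      ((Scheme.Modules.pullbackComp qX _).app F).symm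
  rw [isFlatOverAt_congr_iso _ φ z']
  refine ⟨fun hh => ?_, isFlatOverAt_of_isPullback hqX G z'⟩
  have h1 := H06Mod.isFlatOverAt_comp_of_flat _ qY _ z' hh
  rw [H06Mod.isFlatOverAt_congr hqX.w.symm] at h1
  exact (H06Mod.isFlatOverAt_pullback_iff qX _ _ z').1 h1

theorem isIso_stalkSpecializes_of_eq {a b : Y} (e : a = b) :
    IsIso (Y.presheaf.stalkSpecializes (specializes_of_eq e)) := by
  subst e
  simp only [TopCat.Presheaf.stalkSpecializes_refl]
  infer_instance

/-- Fibrewise flatness only depends on the local rings. -/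
theorem fibFlatAt_local_iff {f : X ⟶ Y} {h : Y ⟶ S} {f' : X' ⟶ Y'} {h' : Y' ⟶ S'}
    {jX : X' ⟶ X} {jY : Y' ⟶ Y} {jS : S' ⟶ S} (wX : jX ≫ f = f' ≫ jY) (wY : jY ≫ h = h' ≫ jS)
    (F : X.Modules) (x' : X') [IsIso (jX.stalkMap x')] [IsIso (jY.stalkMap (f' x'))]
    [IsIso (jS.stalkMap (h' (f' x')))] :
    FibFlatAt f' h' ((Scheme.Modules.pullback jX).obj F) x' ↔ FibFlatAt f h F (jX x') := by
  let σ := Y.presheaf.stalkSpecializes (specializes_of_eq (sq_apply wX x')) ≫ jY.stalkMap (f' x')
  haveI : IsIso (Y.presheaf.stalkSpecializes (specializes_of_eq (sq_apply wX x'))) :=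
    isIso_stalkSpecializes_of_eq (sq_apply wX x')
  have hσ : Function.Bijective σ.hom := ConcreteCategory.bijective_of_isIso σ
  let τ := S.presheaf.stalkSpecializes (specializes_of_eq
      (show jS (h' (f' x')) = h (f (jX x')) by rw [sq_apply wY, sq_apply wX])) ≫ jS.stalkMap (h' (f' x'))
  haveI : IsIso (S.presheaf.stalkSpecializes (specializes_of_eq
      (show jS (h' (f' x')) = h (f (jX x')) by rw [sq_apply wY, sq_apply wX]))) :=
    isIso_stalkSpecializes_of_eq (by rw [sq_apply wY, sq_apply wX])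
  have hτ : Function.Bijective τ.hom := ConcreteCategory.bijective_of_isIso τ
  have hcomm : h.stalkMap (f (jX x')) ≫ σ = τ ≫ h'.stalkMap (f' x') := by
    apply Spec.map_injective
    rw [← cancel_mono (S.fromSpecStalk (h (f (jX x'))))]
    simp only [σ, τ, Spec.map_comp, Category.assoc, Scheme.SpecMap_stalkMap_fromSpecStalk,
      Scheme.SpecMap_stalkSpecializes_fromSpecStalk, Scheme.SpecMap_stalkSpecializes_fromSpecStalk_assoc,
      Scheme.SpecMap_stalkMap_fromSpecStalk_assoc, wY]
  have hm : (maximalIdeal (S.presheaf.stalk (h (f (jX x'))))).map τ.hom =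
      maximalIdeal (S'.presheaf.stalk (h' (f' x'))) :=
    IsLocalRing.map_maximalIdeal_of_surjective _ hτ.2
  letI := FlatMod.moduleStalkOver f F (jX x')
  letI : Algebra (X.presheaf.stalk (jX x')) (X'.presheaf.stalk x') := H06Mod.stalkAlgebra jX x'
  have hb : Function.Bijective (algebraMap (X.presheaf.stalk (jX x')) (X'.presheaf.stalk x')) :=
    ConcreteCategory.bijective_of_isIso (jX.stalkMap x')
  let e0 : F.presheaf.stalk (jX x') ≃ₗ[X.presheaf.stalk (jX x')]
      X'.presheaf.stalk x' ⊗[X.presheaf.stalk (jX x')] F.presheaf.stalk (jX x') :=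
    (TensorProduct.lid _ _).symm.trans
      (LinearEquiv.rTensor _ (LinearEquiv.ofBijective (Algebra.linearMap _ _) hb))
  have he0 : ∀ m, e0 m = 1 ⊗ₜ m := fun m => by
    show algebraMap (X.presheaf.stalk (jX x')) (X'.presheaf.stalk x') 1 ⊗ₜ m = _
    rw [map_one]
  let M' := ((Scheme.Modules.pullback jX).obj F).presheaf.stalk x'
  letI : Module (Y'.presheaf.stalk (f' x')) M' :=
    FlatMod.moduleStalkOver f' ((Scheme.Modules.pullback jX).obj F) x'
  let l : F.presheaf.stalk (jX x') →+ M' :=
    (H06Mod.pullStalkEquiv jX F x').toAddEquiv.toAddMonoidHom.comp e0.toAddEquiv.toAddMonoidHom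
  refine (quotFlat_iff_of_bijective (R' := Y'.presheaf.stalk (f' x')) (N' := M') _ _ σ.hom hσ ?_ l
    ((H06Mod.pullStalkEquiv jX F x').bijective.comp e0.bijective) ?_).symm
  · rw [Ideal.map_map, ← CommRingCat.hom_comp, hcomm, CommRingCat.hom_comp, ← Ideal.map_map, hm]
  · intro r m
    show H06Mod.pullStalkEquiv jX F x' (e0 ((f.stalkMap (jX x')).hom r • m)) =
      (f'.stalkMap x').hom (σ.hom r) • H06Mod.pullStalkEquiv jX F x' (e0 m)
    rw [← (H06Mod.pullStalkEquiv jX F x').map_smul, he0, he0, tmul_smul, smul_tmul', smul_tmul',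
      Algebra.smul_def, mul_one, smul_eq_mul, mul_one]
    exact congrArg (fun a => H06Mod.pullStalkEquiv jX F x' (a ⊗ₜ m))
      (congr($(congrArg CommRingCat.Hom.hom (stalk_comm wX x')) r)).symm

end Groth.Agent.H06EGA9
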