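import Groth.Agent.H06EGA9.FlatFibreBC
import Groth.Agent.H06Mod.StalkFinite
import Groth.Agent.H29Omega.SheafFinite
import Groth.Agent.H16Derived.KFlat.FinLocFree

/-!
# Stalks of the structure module; flatness of the structure module over a base
-/

set_option autoImplicit false
set_option linter.style.haveILetI false
universe u

open CategoryTheory CategoryTheory.Limits AlgebraicGeometry TopologicalSpace

namespace Groth.Agent.H06EGA9

variable {X Y : Scheme.{u}}

/-- The unit section in the stalk of the structure module. -/
noncomputable def oneStalk (x : X) : (Coh.structureModule X).presheaf.stalk x :=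
  (Coh.structureModule X).presheaf.germ ⊤ x trivial (1 : Γ(X, ⊤))

theorem smul_oneStalk (x : X) (U : X.Opens) (hx : x ∈ U) (r : Γ(X, U)) :
    X.presheaf.germ U x hx r • oneStalk x = (Coh.structureModule X).presheaf.germ U x hx r := by
  have h1 : (Coh.structureModule X).presheaf.germ U x hx (1 : Γ(X, U)) = oneStalk x :=
    Eq.trans (congrArg ((Coh.structureModule X).presheaf.germ U x hx)
      (map_one (X.presheaf.map (homOfLE (le_top : U ≤ ⊤)).op).hom).symm)
      ((Coh.structureModule X).presheaf.germ_res_apply (homOfLE le_top) x hx _)
  rw [← h1]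
  refine (H06Mod.germ_smul (Coh.structureModule X) U hx r (1 : Γ(X, U))).symm.trans ?_
  exact congrArg ((Coh.structureModule X).presheaf.germ U x hx) (mul_one r)

theorem bijective_smul_oneStalk (x : X) :
    Function.Bijective fun r : X.presheaf.stalk x => r • oneStalk x := by
  constructor
  · refine (injective_iff_map_eq_zero (LinearMap.toSpanSingleton (X.presheaf.stalk x) _ (oneStalk x))).2
      fun r hr => ?_
    obtain ⟨U, hx, r, rfl⟩ := X.presheaf.exists_germ_eq r
    rw [LinearMap.toSpanSingleton_apply, smul_oneStalk] at hr
    obtain ⟨W, hW, i, i', e⟩ := (Coh.structureModule X).presheaf.germ_eq x hx hx r 0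
      (hr.trans (map_zero _).symm)
    rw [map_zero] at e
    rw [← X.presheaf.germ_res_apply i x hW r]
    exact (congrArg (X.presheaf.germ W x hW) (e : X.presheaf.map i.op r = 0)).trans (map_zero _)
  · intro a
    obtain ⟨U, hx, a, rfl⟩ := (Coh.structureModule X).presheaf.exists_germ_eq a
    exact ⟨X.presheaf.germ U x hx a, smul_oneStalk x U hx a⟩

/-- The structure module is flat over the base at `x` iff the stalk map is flat. -/
theorem isFlatOverAt_structureModule_iff (f : X ⟶ Y) (x : X) :
    FlatMod.IsFlatOverAt f (Coh.structureModule X) x ↔ (f.stalkMap x).hom.Flat := by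
  letI := FlatMod.moduleStalkOver f (Coh.structureModule X) x
  letI := (f.stalkMap x).hom.toAlgebra
  exact (flat_iff_of_semilinear (RingHom.id (Y.presheaf.stalk (f x))) Function.bijective_id
    (LinearMap.toSpanSingleton (X.presheaf.stalk x) _ (oneStalk x)).toAddMonoidHom (bijective_smul_oneStalk x)
    fun r a => mul_smul ((f.stalkMap x).hom r) a (oneStalk x)).symm

/-- The structure module is finitely presented. -/
theorem isFP_structureModule : CohB1.IsFP (Coh.structureModule X) := by
  haveI : (Coh.structureModule X).IsQuasicoherent := H10Coh.isQuasicoherent_unit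
  refine H29Omega.isFP_of_affineCover (Coh.structureModule X) (fun U : X.affineOpens => U.1)
    (iSup_affineOpens_eq_top X) (fun U => U.2) fun U => ?_
  exact inferInstanceAs (Module.FinitePresentation Γ(X, U.1) Γ(X, U.1))

theorem isFlatOverAt_pullback_structure_iff {X' Y' : Scheme.{u}} (f' : X' ⟶ Y') (jX : X' ⟶ X) (x' : X') :
    FlatMod.IsFlatOverAt f' ((Scheme.Modules.pullback jX).obj (Coh.structureModule X)) x' ↔
      (f'.stalkMap x').hom.Flat :=
  (isFlatOverAt_congr_iso f' (H16Derived.KFlat.Stalk.structurePullbackIso jX) x').trans
    (isFlatOverAt_structureModule_iff f' x')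

end Groth.Agent.H06EGA9
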