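import Groth.Agent.H06EGA9.FlatFibre
import Groth.Agent.H7Flat.FibreCriterion
import Mathlib.RingTheory.Flat.Stability
import Mathlib.AlgebraicGeometry.Noetherian

/-!
# The fibrewise criterion of flatness for modules (EGA IV 11.3.10)
-/

set_option autoImplicit false
set_option linter.style.haveILetI false
universe u

open CategoryTheory AlgebraicGeometry TensorProduct IsLocalRing

namespace Groth.Agent.H06EGA9

theorem quotFlat_iff_flat_tensor {B M : Type u} [CommRing B] [AddCommGroup M] [Module B M]
    (I : Ideal B) : QuotFlat B I M ↔ Module.Flat (B ⧸ I) ((B ⧸ I) ⊗[B] M) := by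
  let t := TensorProduct.quotTensorEquivQuotSMul M I
  refine (flat_iff_of_semilinear (RingHom.id (B ⧸ I)) Function.bijective_id
    t.toAddEquiv.toAddMonoidHom t.bijective fun r z => ?_).symm
  obtain ⟨r, rfl⟩ := Ideal.Quotient.mk_surjective r
  show t (algebraMap B (B ⧸ I) r • z) = algebraMap B (B ⧸ I) r • t z
  rw [algebraMap_smul, algebraMap_smul, map_smul]

theorem quotFlat_of_flat {B M : Type u} [CommRing B] [AddCommGroup M] [Module B M]
    (I : Ideal B) [Module.Flat B M] : QuotFlat B I M :=
  (quotFlat_iff_flat_tensor I).2 inferInstance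

/-- Module version of the fibrewise criterion for Noetherian local rings. -/
theorem flat_of_quotFlat {R B C M : Type u} [CommRing R] [CommRing B] [CommRing C] [IsLocalRing R]
    [IsLocalRing B] [IsLocalRing C] [IsNoetherianRing B] [IsNoetherianRing C] [Algebra R B]
    [Algebra B C] [IsLocalHom (algebraMap R B)] [IsLocalHom (algebraMap B C)] [AddCommGroup M]
    [Module R M] [Module B M] [Module C M] [IsScalarTower R B M] [IsScalarTower B C M]
    [Module.Finite C M] [Module.Flat R M]
    (h : QuotFlat B ((maximalIdeal R).map (algebraMap R B)) M) : Module.Flat B M := by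
  haveI := (quotFlat_iff_flat_tensor _).1 h
  exact H7Flat.flat_of_injective_of_flat_quotient (S := C) ((maximalIdeal R).map (algebraMap R B))
    (ne_top_of_le_ne_top (maximalIdeal.isMaximal B).ne_top (map_maximalIdeal_le (algebraMap R B)))
    (H7Flat.lTensor_map_injective (R := R) (S := B) (M := M) _)

variable {X Y S : Scheme.{u}} (f : X ⟶ Y) (h : Y ⟶ S) (F : X.Modules) (x : X)

theorem fibFlatAt_of_isFlatOverAt (hf : FlatMod.IsFlatOverAt f F x) : FibFlatAt f h F x :=
  letI := FlatMod.moduleStalkOver f F x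
  haveI : Module.Flat (Y.presheaf.stalk (f x)) (F.presheaf.stalk x) := hf
  quotFlat_of_flat _

theorem isScalarTower_stalks :
    letI := (h.stalkMap (f x)).hom.toAlgebra
    letI : Module (S.presheaf.stalk (h (f x))) (F.presheaf.stalk x) :=
      FlatMod.moduleStalkOver (f ≫ h) F x
    letI := FlatMod.moduleStalkOver f F x
    IsScalarTower (S.presheaf.stalk (h (f x))) (Y.presheaf.stalk (f x)) (F.presheaf.stalk x) :=
  letI := (h.stalkMap (f x)).hom.toAlgebra
  letI : Module (S.presheaf.stalk (h (f x))) (F.presheaf.stalk x) :=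
    FlatMod.moduleStalkOver (f ≫ h) F x
  letI := FlatMod.moduleStalkOver f F x
  .of_algebraMap_smul fun r a => by
    show (f.stalkMap x).hom ((h.stalkMap (f x)).hom r) • a = ((f ≫ h).stalkMap x).hom r • a
    rw [Scheme.Hom.stalkMap_comp]
    rfl

/-- Over locally Noetherian schemes: flat over `S` and flat on the fibre implies flat over `Y`. -/
theorem isFlatOverAt_of_fibFlatAt [IsLocallyNoetherian X] [IsLocallyNoetherian Y]
    (hfin : Module.Finite (X.presheaf.stalk x) (F.presheaf.stalk x))
    (hS : FlatMod.IsFlatOverAt (f ≫ h) F x) (hfib : FibFlatAt f h F x) :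
    FlatMod.IsFlatOverAt f F x := by
  letI := (h.stalkMap (f x)).hom.toAlgebra
  letI : Module (S.presheaf.stalk (h (f x))) (F.presheaf.stalk x) :=
    FlatMod.moduleStalkOver (f ≫ h) F x
  letI := FlatMod.moduleStalkOver f F x
  letI := (f.stalkMap x).hom.toAlgebra
  haveI := isScalarTower_stalks f h F x
  haveI : IsScalarTower (Y.presheaf.stalk (f x)) (X.presheaf.stalk x) (F.presheaf.stalk x) :=
    .of_algebraMap_smul fun _ _ => rfl
  haveI : IsLocalHom (algebraMap (S.presheaf.stalk (h (f x))) (Y.presheaf.stalk (f x))) :=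
    inferInstanceAs (IsLocalHom (h.stalkMap (f x)).hom)
  haveI : IsLocalHom (algebraMap (Y.presheaf.stalk (f x)) (X.presheaf.stalk x)) :=
    inferInstanceAs (IsLocalHom (f.stalkMap x).hom)
  haveI : Module.Flat (S.presheaf.stalk (h (f x))) (F.presheaf.stalk x) := hS
  exact flat_of_quotFlat (R := S.presheaf.stalk (h (f x))) (C := X.presheaf.stalk x) hfib

/-- A nonzero stalk flat over `S` and `Y` forces `Y` flat over `S`. -/
theorem flat_stalkMap_of_nontrivial
    (hfin : Module.Finite (X.presheaf.stalk x) (F.presheaf.stalk x))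
    (hx : Nontrivial (F.presheaf.stalk x))
    (hS : FlatMod.IsFlatOverAt (f ≫ h) F x) (hf : FlatMod.IsFlatOverAt f F x) :
    (h.stalkMap (f x)).hom.Flat := by
  letI := (h.stalkMap (f x)).hom.toAlgebra
  letI : Module (S.presheaf.stalk (h (f x))) (F.presheaf.stalk x) :=
    FlatMod.moduleStalkOver (f ≫ h) F x
  letI := FlatMod.moduleStalkOver f F x
  letI := (f.stalkMap x).hom.toAlgebra
  haveI := isScalarTower_stalks f h F x
  haveI : IsScalarTower (Y.presheaf.stalk (f x)) (X.presheaf.stalk x) (F.presheaf.stalk x) :=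
    .of_algebraMap_smul fun _ _ => rfl
  haveI : IsLocalHom (algebraMap (Y.presheaf.stalk (f x)) (X.presheaf.stalk x)) :=
    inferInstanceAs (IsLocalHom (f.stalkMap x).hom)
  haveI : Module.Flat (S.presheaf.stalk (h (f x))) (F.presheaf.stalk x) := hS
  haveI : Module.Flat (Y.presheaf.stalk (f x)) (F.presheaf.stalk x) := hf
  haveI : Module.FaithfullyFlat (Y.presheaf.stalk (f x)) (F.presheaf.stalk x) :=
    H7Flat.faithfullyFlat_of_flat (S' := X.presheaf.stalk x)
  show Module.Flat (S.presheaf.stalk (h (f x))) (Y.presheaf.stalk (f x))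
  exact H7Flat.flat_of_faithfullyFlat (M := F.presheaf.stalk x)

theorem isFlatOverAt_comp_of_flat_stalkMap (hh : (h.stalkMap (f x)).hom.Flat)
    (hf : FlatMod.IsFlatOverAt f F x) : FlatMod.IsFlatOverAt (f ≫ h) F x := by
  letI := (h.stalkMap (f x)).hom.toAlgebra
  letI : Module (S.presheaf.stalk (h (f x))) (F.presheaf.stalk x) :=
    FlatMod.moduleStalkOver (f ≫ h) F x
  letI := FlatMod.moduleStalkOver f F x
  haveI := isScalarTower_stalks f h F x
  haveI : Module.Flat (Y.presheaf.stalk (f x)) (F.presheaf.stalk x) := hf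
  haveI : Module.Flat (S.presheaf.stalk (h (f x))) (Y.presheaf.stalk (f x)) := hh
  exact Module.Flat.trans (S.presheaf.stalk (h (f x))) (Y.presheaf.stalk (f x)) (F.presheaf.stalk x)

end Groth.Agent.H06EGA9
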