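import Groth.Agent.H06EGA9.FlatFibreBC
import Groth.Agent.H06EGA9.ModuleCriterion
import Groth.Agent.H06EGA11.Sheaf
import Groth.Agent.H06Mod.StalkFinite
import Groth.Agent.H17.ConsPropBasic
import Groth.Agent.H13Flat.Generic
import Groth.Agent.H12AlgSp.LocPCancel
import Groth.Agent.H29Fitt.Admissible

/-!
# The fibrewise flat locus over a Noetherian base is constructible (EGA IV 11.2.8)
-/

set_option autoImplicit false
set_option linter.style.haveILetI false
universe u

open CategoryTheory CategoryTheory.Limits AlgebraicGeometry TopologicalSpace Topology Set TensorProduct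

namespace Groth.Agent.H06EGA9

theorem isFP_pullback {X X' : Scheme.{u}} (b : X' ⟶ X) {F : X.Modules} (hF : CohB1.IsFP F) :
    CohB1.IsFP ((Scheme.Modules.pullback b).obj F) := by
  haveI : ((Scheme.Modules.pullback b).obj F).IsQuasicoherent :=
    H29Fitt.isQCoh_pullback b F (H29Fitt.isQCoh_of_isFP F hF)
  choose O hxO hO using H29Fitt.exists_nhd_finitePresentation_pullback b F hF
  choose V hxV hV hle using fun x => show ∃ V : X'.Opens, x ∈ V ∧ IsAffineOpen V ∧ V ≤ O x by
    obtain ⟨_, ⟨V, hV : IsAffineOpen V, rfl⟩, hxV, hle⟩ :=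
      X'.isBasis_affineOpens.exists_subset_of_mem_open (hxO x) (O x).isOpen
    exact ⟨V, hxV, hV, hle⟩
  exact H29Omega.isFP_of_affineCover _ V (eq_top_iff.2 fun x _ => Opens.mem_iSup.2 ⟨x, hxV x⟩) hV
    fun x => hO x _ (hV x) (hle x)

/-- Generic flatness localised at the primes away from `d`. -/
theorem flat_localizedModule_of_killsKer {D C M : Type u} [CommRing D] [CommRing C] [Algebra D C]
    [AddCommGroup M] [Module D M] [Module C M] [IsScalarTower D C M] {d : D}
    (hk : H13Flat.KillsKer d M) (q : Ideal C) [q.IsPrime] (hd : algebraMap D C d ∉ q) :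
    Module.Flat D (LocalizedModule q.primeCompl M) := by
  refine H06EGA11.flat_localizedModule q.primeCompl fun J x hx => ?_
  have key : ∀ z : M ⊗[D] J,
      J.subtype.rTensor M (TensorProduct.comm D M J z) = TensorProduct.comm D M D (J.subtype.lTensor M z) := by
    intro z
    induction z with
    | zero => simp
    | tmul m j => simp
    | add a b ha hb => simp only [map_add, ha, hb]
  obtain ⟨k, hk⟩ := hk J (TensorProduct.comm D M J x) (by rw [key, hx, map_zero])
  refine ⟨algebraMap D C (d ^ k), fun hmem => hd (‹q.IsPrime›.mem_of_pow_mem k (by rwa [← map_pow])), ?_⟩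
  rw [algebraMap_smul]
  apply (TensorProduct.comm D M J).injective
  rw [map_smul, hk, map_zero]

/-- Generic flatness of a module over an integral Noetherian base. -/
theorem exists_open_isFlatOverAt {X S : Scheme.{u}} (u : X ⟶ S) [IsIntegral S] [IsNoetherian S]
    [LocallyOfFiniteType u] [QuasiCompact u] {F : X.Modules} (hF : CohB1.IsFP F) :
    ∃ V : S.Opens, genericPoint S ∈ V ∧ ∀ x, u x ∈ V → FlatMod.IsFlatOverAt u F x := by
  classical
  obtain ⟨_, ⟨W, hW : IsAffineOpen W, rfl⟩, hηW, -⟩ :=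
    S.isBasis_affineOpens.exists_subset_of_mem_open (Set.mem_univ (genericPoint S)) isOpen_univ
  haveI : Nonempty W := ⟨⟨_, hηW⟩⟩
  have hD : IsDomain Γ(S, W) := inferInstance
  have hN : IsNoetherianRing Γ(S, W) := IsLocallyNoetherian.component_noetherian ⟨W, hW⟩
  choose O hxO hO using H06EGA11.exists_nhd_forall_finitePresentation F hF
  choose U hxU hU hle using fun x : (u ⁻¹ᵁ W : X.Opens) =>
      show ∃ U : X.Opens, x.1 ∈ U ∧ IsAffineOpen U ∧ U ≤ O x.1 ⊓ u ⁻¹ᵁ W by
    obtain ⟨_, ⟨U, hU : IsAffineOpen U, rfl⟩, hxU, hle⟩ :=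
      X.isBasis_affineOpens.exists_subset_of_mem_open
        (show x.1 ∈ O x.1 ⊓ u ⁻¹ᵁ W from ⟨hxO x.1, x.2⟩) (O x.1 ⊓ u ⁻¹ᵁ W).isOpen
    exact ⟨U, hxU, hU, hle⟩
  have key : ∀ x, ∃ d : Γ(S, W), d ≠ 0 ∧
      ∀ y ∈ U x, u y ∈ S.basicOpen d → FlatMod.IsFlatOverAt u F y := by
    intro x
    have hUW : U x ≤ u ⁻¹ᵁ W := fun y hy => (hle x hy).2
    letI := Module.compHom Γ(F, U x) (u.appLE W (U x) hUW).hom
    letI := (u.appLE W (U x) hUW).hom.toAlgebra
    haveI : IsScalarTower Γ(S, W) Γ(X, U x) Γ(F, U x) := .of_algebraMap_smul fun _ _ => rfl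
    haveI : Module.FinitePresentation Γ(X, U x) Γ(F, U x) :=
      hO x.1 _ (hU x) fun y hy => (hle x hy).1
    haveI : Algebra.FiniteType Γ(S, W) Γ(X, U x) := u.finiteType_appLE hW (hU x) hUW
    obtain ⟨d, hd0, hk⟩ := H13Flat.genericFlat_of_finiteType (D := Γ(S, W)) Γ(X, U x) Γ(F, U x)
    refine ⟨d, hd0, fun y hy hyd => ?_⟩
    refine (H8Props.FlatLocus.isFlatOverAt_iff_localizedModule u F (H29Fitt.isQCoh_of_isFP F hF)
      hW (hU x) hUW ⟨y, hy⟩).2 (flat_localizedModule_of_killsKer hk _ ?_)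
    intro hmem
    have h1 : y ∈ X.basicOpen ((u.appLE W (U x) hUW).hom d) := by
      rw [Scheme.basicOpen_appLE]
      exact ⟨hy, hyd⟩
    have h2 : (hU x).primeIdealOf ⟨y, hy⟩ ∈ PrimeSpectrum.basicOpen ((u.appLE W (U x) hUW).hom d) := by
      rw [← (hU x).fromSpec_preimage_basicOpen]
      show (hU x).fromSpec ((hU x).primeIdealOf ⟨y, hy⟩) ∈ X.basicOpen _
      rw [(hU x).fromSpec_primeIdealOf]
      exact h1
    exact h2 hmem
  choose d hd0 hd using key
  obtain ⟨t, ht⟩ := (QuasiCompact.isCompact_preimage (f := u) W W.2 hW.isCompact).elim_finite_subcover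
    (fun x => (U x : Set X)) (fun x => (U x).2)
    (fun x hx => Set.mem_iUnion.2 ⟨⟨x, hx⟩, hxU ⟨x, hx⟩⟩)
  refine ⟨S.basicOpen (∏ x ∈ t, d x), ?_, fun y hy => ?_⟩
  · have hne : ∏ x ∈ t, d x ≠ 0 := Finset.prod_ne_zero_iff.2 fun x _ => hd0 x
    by_contra hη
    refine hne ((AlgebraicGeometry.basicOpen_eq_bot_iff _).1 (eq_bot_iff.2 fun z hz => ?_))
    exact absurd ((genericPoint_specializes z).mem_open (S.basicOpen _).2 hz) hη
  · obtain ⟨x, hxt, hyx⟩ := Set.mem_iUnion₂.1
      (ht (show y ∈ u ⁻¹ᵁ W from S.basicOpen_le _ hy))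
    refine hd x y hyx ?_
    rw [← Finset.mul_prod_erase t d hxt, Scheme.basicOpen_mul] at hy
    exact hy.1

/-- The fibrewise flat locus is constructible over a Noetherian base. -/
theorem isConstructible_fibFlatAt {X Y S : Scheme.{u}} (f : X ⟶ Y) (h : Y ⟶ S) [IsNoetherian S]
    [LocallyOfFiniteType h] [QuasiCompact h] [LocallyOfFiniteType (f ≫ h)] [QuasiCompact (f ≫ h)]
    {F : X.Modules} (hF : CohB1.IsFP F) :
    IsConstructible {x : X | FibFlatAt f h F x} := by
  haveI := H17.ConsProp.isNoetherian_of_finiteType (f ≫ h)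
  refine H28Top.isConstructible_of_forall_irreducible fun Z hZ hi hd => ?_
  set η := hi.genericPoint
  have hη : IsGenericPoint η Z := hi.isGenericPoint_genericPoint hZ
  obtain ⟨T, i, _, _, _, hr⟩ := H17.ConsProp.exists_integral_closed (closure {(f ≫ h) η})
    isClosed_closure isIrreducible_singleton.closure
  have hY := IsPullback.of_hasPullback h i
  have hX := IsPullback.of_hasPullback f (pullback.fst h i)
  haveI : LocallyOfFiniteType (pullback.snd h i) := MorphismProperty.of_isPullback hY ‹_›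
  haveI : QuasiCompact (pullback.snd h i) := MorphismProperty.of_isPullback hY ‹_›
  have hg := hX.paste_vert hY
  haveI : LocallyOfFiniteType (pullback.snd f (pullback.fst h i) ≫ pullback.snd h i) :=
    MorphismProperty.of_isPullback hg ‹_›
  haveI : QuasiCompact (pullback.snd f (pullback.fst h i) ≫ pullback.snd h i) :=
    MorphismProperty.of_isPullback hg ‹_›
  haveI := H17.ConsProp.isNoetherian_of_finiteType (pullback.snd h i)
  haveI := H17.ConsProp.isNoetherian_of_finiteType (pullback.snd f (pullback.fst h i) ≫ pullback.snd h i)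
  haveI : LocallyOfFiniteType (pullback.snd f (pullback.fst h i)) :=
    locallyOfFiniteType_of_comp _ (pullback.snd h i)
  haveI : LocallyOfFinitePresentation (pullback.snd f (pullback.fst h i)) :=
    H12AlgSp.lfp_of_lft_of_isLocallyNoetherian _
  have hG := isFP_pullback (pullback.fst f (pullback.fst h i)) hF
  set G := (Scheme.Modules.pullback (pullback.fst f (pullback.fst h i))).obj F
  obtain ⟨V, hηV, hV⟩ :=
    exists_open_isFlatOverAt (pullback.snd f (pullback.fst h i) ≫ pullback.snd h i) hG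
  obtain ⟨V', hV', hVV'⟩ := i.isEmbedding.isInducing.isOpen_iff.1 V.2
  haveI : IsClosedImmersion (pullback.fst h i) := MorphismProperty.of_isPullback hY.flip ‹_›
  haveI : IsClosedImmersion (pullback.fst f (pullback.fst h i)) :=
    MorphismProperty.of_isPullback hX.flip ‹IsClosedImmersion (pullback.fst h i)›
  set jX := pullback.fst f (pullback.fst h i)
  set fT := pullback.snd f (pullback.fst h i)
  set gT := fT ≫ pullback.snd h i
  obtain ⟨U, hUo, hU⟩ := jX.isEmbedding.isInducing.isOpen_iff.1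
    (H8Props.FlatLocus.isOpen_setOf_isFlatOverAt fT G hG)
  have hcomm : ∀ w, (f ≫ h) (jX w) = i (gT w) := fun w => by
    rw [← Scheme.Hom.comp_apply, ← Scheme.Hom.comp_apply, hg.w]
  have hlift : ∀ w ∈ Z, ∃ w', jX w' = w := fun w hw => by
    obtain ⟨t, ht⟩ := hr.ge (((hη.specializes hw).map (f ≫ h).continuous).mem_closure)
    obtain ⟨w', hw', -⟩ := Scheme.exists_preimage_of_isPullback hg w t ht.symm
    exact ⟨w', hw'⟩
  have hiff : ∀ w', gT w' ∈ V → (FibFlatAt f h F (jX w') ↔ FlatMod.IsFlatOverAt fT G w') := by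
    intro w' hw'
    rw [← fibFlatAt_baseChange_iff hY hX F w']
    refine ⟨fun hfib => isFlatOverAt_of_fibFlatAt fT (pullback.snd h i) G w' ?_ (hV w' hw') hfib,
      fibFlatAt_of_isFlatOverAt fT _ G w'⟩
    exact H06Mod.finite_stalk G (H29Fitt.isFT_of_isFP G hG) w'
  have hηV' : (f ≫ h) η ∈ V' := by
    obtain ⟨t, ht⟩ := hr.ge (subset_closure rfl)
    rw [← ht]
    have : genericPoint T = t := by
      refine (genericPoint_spec T).eq (Set.eq_univ_of_forall fun w => ?_)
      refine (i.isEmbedding.isInducing.specializes_iff.1 ?_).mem_closure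
      rw [ht]
      exact specializes_iff_mem_closure.mpr (hr.subset (mem_range_self w))
    exact (hVV'.ge (this ▸ hηV) : t ∈ i ⁻¹' V')
  refine ⟨U ∩ (f ≫ h) ⁻¹' V', hUo.inter (hV'.preimage (f ≫ h).continuous), ?_, ?_⟩
  · obtain ⟨e, heV, heE, heZ⟩ := mem_closure_iff.1 (hd hη.mem) _ (hV'.preimage (f ≫ h).continuous) hηV'
    obtain ⟨e', rfl⟩ := hlift e heZ
    have he' : gT e' ∈ V := hVV'.le (show i (gT e') ∈ V' by rw [← hcomm]; exact heV)
    exact ⟨jX e', ⟨hU.ge ((hiff e' he').1 heE), heV⟩, heZ⟩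
  · rintro w ⟨⟨hwU, hwV⟩, hwZ⟩
    obtain ⟨w', rfl⟩ := hlift w hwZ
    have hw' : gT w' ∈ V := hVV'.le (show i (gT w') ∈ V' by rw [← hcomm]; exact hwV)
    exact (hiff w' hw').2 (hU.le hwU)

end Groth.Agent.H06EGA9
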