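import Mathlib.Algebra.Module.Torsion.Basic
import Mathlib.RingTheory.Flat.Stability
import Mathlib.RingTheory.Flat.FaithfullyFlat.Basic
import Mathlib.RingTheory.Ideal.Quotient.Operations
import Mathlib.RingTheory.TensorProduct.Quotient
import Mathlib.LinearAlgebra.TensorProduct.RightExactness

/-!
# Flatness of the reduction of a module modulo an ideal of the base, semilinear invariance
-/

set_option autoImplicit false
set_option linter.style.haveILetI false
universe u

open TensorProduct

namespace Groth.Agent.H06EGA9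

/-- `N / J N` is flat over `R / J`. -/
def QuotFlat (R : Type u) [CommRing R] (J : Ideal R) (N : Type u) [AddCommGroup N] [Module R N] : Prop :=
  Module.Flat (R ⧸ J) (N ⧸ (J • (⊤ : Submodule R N)))

variable {R R' : Type u} [CommRing R] [CommRing R'] {N N' : Type u} [AddCommGroup N] [Module R N]
  [AddCommGroup N'] [Module R' N']

/-- Flatness is insensitive to semilinear bijections along bijective ring maps. -/
theorem flat_of_semilinear (σ : R →+* R') (hσ : Function.Bijective σ) (e : N →+ N')
    (he : Function.Bijective e) (hs : ∀ r m, e (r • m) = σ r • e m) (h : Module.Flat R N) :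
    Module.Flat R' N' := by
  letI := σ.toAlgebra
  letI : Module R N' := Module.compHom N' σ
  haveI : IsScalarTower R R' N' := .of_algebraMap_smul fun _ _ => rfl
  haveI : Module.Flat R N' :=
    Module.Flat.of_linearEquiv (LinearEquiv.ofBijective ({ e with map_smul' := hs } : N →ₗ[R] N') he).symm
  let g : R' ⊗[R] N' →ₗ[R'] N' := LinearMap.liftBaseChange R' (LinearMap.id : N' →ₗ[R] N')
  have hg : Function.Bijective g := by
    refine ⟨Function.LeftInverse.injective (g := fun m => (1 : R') ⊗ₜ[R] m) fun z => ?_,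
      fun m => ⟨1 ⊗ₜ m, by simp [g]⟩⟩
    induction z with
    | zero => simp
    | add a b ha hb => simp only [map_add, tmul_add, ha, hb]
    | tmul r m =>
      obtain ⟨r, rfl⟩ := hσ.2 r
      show (1 : R') ⊗ₜ[R] g (σ r ⊗ₜ m) = σ r ⊗ₜ m
      rw [show g (σ r ⊗ₜ m) = σ r • m by simp [g], show σ r • m = r • m from rfl, tmul_smul,
        smul_tmul', show r • (1 : R') = σ r * 1 from rfl, mul_one]
  exact Module.Flat.of_linearEquiv (LinearEquiv.ofBijective g hg).symm

theorem flat_iff_of_semilinear (σ : R →+* R') (hσ : Function.Bijective σ) (e : N →+ N')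
    (he : Function.Bijective e) (hs : ∀ r m, e (r • m) = σ r • e m) :
    Module.Flat R N ↔ Module.Flat R' N' := by
  refine ⟨flat_of_semilinear σ hσ e he hs, ?_⟩
  let σ' := (RingEquiv.ofBijective σ hσ).symm
  let e' := (AddEquiv.ofBijective e he).symm
  refine flat_of_semilinear σ'.toRingHom σ'.bijective e'.toAddMonoidHom e'.bijective fun r m => he.1 ?_
  show e (e' (r • m)) = e (σ' r • e' m)
  rw [hs]
  refine ((AddEquiv.ofBijective e he).apply_symm_apply _).trans ?_
  show r • m = RingEquiv.ofBijective σ hσ (σ' r) • e (e' m)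
  rw [(RingEquiv.ofBijective σ hσ).apply_symm_apply]
  exact congrArg (r • ·) ((AddEquiv.ofBijective e he).apply_symm_apply m).symm

/-- Recognising `N / J N` over `R / J`. -/
theorem quotFlat_iff (J : Ideal R) (σ : R →+* R') (hσ : Function.Surjective σ)
    (hker : RingHom.ker σ = J) (l : N →+ N') (hl : Function.Surjective l)
    (hlker : ∀ m, l m = 0 ↔ m ∈ J • (⊤ : Submodule R N)) (hs : ∀ r m, l (r • m) = σ r • l m) :
    QuotFlat R J N ↔ Module.Flat R' N' := by
  subst hker
  let J := RingHom.ker σ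
  let σq : R ⧸ J →+* R' := σ.kerLift
  let lq : N ⧸ (J • (⊤ : Submodule R N)) →+ N' :=
    QuotientAddGroup.lift (J • (⊤ : Submodule R N)).toAddSubgroup l fun m hm => (hlker m).2 hm
  refine flat_iff_of_semilinear σq ⟨σ.kerLift_injective, fun y => ?_⟩ lq ⟨?_, fun y => ?_⟩ ?_
  · obtain ⟨x, rfl⟩ := hσ y
    exact ⟨Ideal.Quotient.mk J x, rfl⟩
  · rw [injective_iff_map_eq_zero]
    intro z hz
    obtain ⟨m, rfl⟩ := Submodule.Quotient.mk_surjective _ z
    exact (Submodule.Quotient.mk_eq_zero _).2 ((hlker m).1 hz)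
  · obtain ⟨x, rfl⟩ := hl y
    exact ⟨Submodule.Quotient.mk x, rfl⟩
  · intro r z
    obtain ⟨r, rfl⟩ := Ideal.Quotient.mk_surjective r
    obtain ⟨m, rfl⟩ := Submodule.Quotient.mk_surjective _ z
    exact hs r m

theorem map_smul_top (J : Ideal R) (σ : R →+* R') (hσ : Function.Surjective σ) (l : N →+ N')
    (hl : Function.Surjective l) (hs : ∀ r m, l (r • m) = σ r • l m) (y : N') :
    y ∈ J.map σ • (⊤ : Submodule R' N') ↔ ∃ m ∈ J • (⊤ : Submodule R N), l m = y := by
  constructor
  · intro hy
    refine Submodule.smul_induction_on hy (fun r hr n _ => ?_) ?_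
    · obtain ⟨r, hr', rfl⟩ := (Ideal.mem_map_iff_of_surjective σ hσ).1 hr
      obtain ⟨n, rfl⟩ := hl n
      exact ⟨r • n, Submodule.smul_mem_smul hr' trivial, hs r n⟩
    · rintro a b ⟨x, hx, rfl⟩ ⟨z, hz, rfl⟩
      exact ⟨x + z, add_mem hx hz, map_add l x z⟩
  · rintro ⟨m, hm, rfl⟩
    refine Submodule.smul_induction_on hm (fun r hr n _ => ?_) fun a b ha hb => ?_
    · rw [hs]
      exact Submodule.smul_mem_smul (Ideal.mem_map_of_mem σ hr) trivial
    · rw [map_add]; exact add_mem ha hb

/-- Invariance of `QuotFlat` under semilinear bijections. -/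
theorem quotFlat_iff_of_bijective (J : Ideal R) (J' : Ideal R') (σ : R →+* R')
    (hσ : Function.Bijective σ) (hJ : J.map σ = J') (l : N →+ N') (hl : Function.Bijective l)
    (hs : ∀ r m, l (r • m) = σ r • l m) :
    QuotFlat R J N ↔ QuotFlat R' J' N' := by
  subst hJ
  refine quotFlat_iff J ((Ideal.Quotient.mk _).comp σ) (Ideal.Quotient.mk_surjective.comp hσ.2) ?_
    ((Submodule.mkQ _).toAddMonoidHom.comp l) ((Submodule.mkQ_surjective _).comp hl.2) ?_
    fun r m => ?_
  pick_goal 3
  · show Submodule.Quotient.mk (l (r • m)) = Ideal.Quotient.mk (J.map σ) (σ r) • Submodule.Quotient.mk (l m)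
    rw [hs, Submodule.Quotient.mk_smul]
    rfl
  · rw [← RingHom.comap_ker, Ideal.mk_ker, Ideal.comap_map_of_bijective σ hσ]
  · intro m
    show Submodule.Quotient.mk (l m) = 0 ↔ _
    rw [Submodule.Quotient.mk_eq_zero, map_smul_top J σ hσ.2 l hl.2 hs]
    exact ⟨fun ⟨n, hn, h⟩ => hl.1 h ▸ hn, fun h => ⟨m, h, rfl⟩⟩

/-- `M / J M` for an algebra `R → A` and a surjection `A → A'` with kernel `J A`. -/
theorem one_tmul_eq_zero_iff {A A' M : Type u} [CommRing A] [CommRing A'] [Algebra R A]
    [Algebra A A'] [AddCommGroup M] [Module A M] [Module R M] [IsScalarTower R A M] (J : Ideal R)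
    (hA : Function.Surjective (algebraMap A A'))
    (hker : RingHom.ker (algebraMap A A') = J.map (algebraMap R A)) (m : M) :
    (1 : A') ⊗ₜ[A] m = 0 ↔ m ∈ J • (⊤ : Submodule R M) := by
  let I := RingHom.ker (algebraMap A A')
  let e : (A ⧸ I) ≃ₐ[A] A' := Ideal.quotientKerAlgEquivOfSurjective (f := Algebra.ofId A A') hA
  let t : A' ⊗[A] M ≃ₗ[A] M ⧸ (I • (⊤ : Submodule A M)) :=
    (LinearEquiv.rTensor M e.symm.toLinearEquiv).trans (TensorProduct.quotTensorEquivQuotSMul M I)
  have ht : t (1 ⊗ₜ m) = Submodule.Quotient.mk m := by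
    show TensorProduct.quotTensorEquivQuotSMul M I (e.symm 1 ⊗ₜ[A] m) = _
    rw [map_one]
    exact TensorProduct.quotTensorEquivQuotSMul_mk_one_tmul (M := M) I m
  rw [← t.map_eq_zero_iff, ht, Submodule.Quotient.mk_eq_zero]
  change m ∈ RingHom.ker (algebraMap A A') • (⊤ : Submodule A M) ↔ _
  rw [hker, ← Submodule.restrictScalars_mem R, Ideal.smul_restrictScalars, Submodule.restrictScalars_top]

end Groth.Agent.H06EGA9
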