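import Groth.Agent.H06EGA9.FlatModel

/-!
# The fibrewise flat locus is locally constructible (EGA IV 11.2.8)
-/

set_option autoImplicit false
set_option linter.style.haveILetI false
universe u

open CategoryTheory CategoryTheory.Limits AlgebraicGeometry TopologicalSpace Topology Set

namespace Groth.Agent.H06EGA9

theorem isLocallyConstructible_of_charts {X : Scheme.{u}} {E : Set X}
    (hE : ∀ x : X, ∃ (U : Scheme.{u}) (a : U ⟶ X), IsOpenImmersion a ∧ x ∈ range a ∧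
      IsConstructible (a ⁻¹' E)) : IsLocallyConstructible E := by
  intro x
  obtain ⟨U, a, _, hx, hc⟩ := hE x
  refine ⟨range a, a.isOpenEmbedding.isOpen_range.mem_nhds hx, a.isOpenEmbedding.isOpen_range, ?_⟩
  let e := a.isOpenEmbedding.toIsEmbedding.toHomeomorph
  have h2 : e '' (a ⁻¹' E) = Subtype.val ⁻¹' E := by
    ext ⟨y, z, rfl⟩
    constructor
    · rintro ⟨z', hz', he⟩
      have h3 : a z' = a z := congrArg Subtype.val he
      show a z ∈ E
      rw [← h3]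
      exact hz'
    · exact fun h => ⟨z, h, Subtype.ext rfl⟩
  rw [← h2]
  exact hc.image_of_isOpenEmbedding e.isOpenEmbedding (by rw [e.surjective.range_eq]; exact IsRetrocompact.univ)

/-- Quasi-coherent sheaves with finitely presented sections restrict to tilde modules. -/
theorem exists_tilde_pullback_fromSpec {X : Scheme.{u}} {F : X.Modules} (hF : Coh.IsQCoh F) {U : X.Opens}
    (hU : IsAffineOpen U) (h : Module.FinitePresentation Γ(X, U) Γ(F, U)) :
    ∃ M : ModuleCat.{u} Γ(X, U), Module.FinitePresentation Γ(X, U) M ∧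
      Nonempty ((Scheme.Modules.pullback hU.fromSpec).obj F ≅ tilde M) := by
  haveI : F.IsQuasicoherent := hF
  haveI := hU.isOpenImmersion_fromSpec
  haveI hq := Scheme.Modules.isQuasicoherent_restrictFunctor hU.fromSpec F
  have htop : hU.fromSpec ''ᵁ ⊤ = U := by
    rw [Scheme.Hom.image_top_eq_opensRange, hU.opensRange_fromSpec]
  refine ⟨(H10Coh.ΓSpec Γ(X, U)).obj (F.restrict hU.fromSpec), ?_,
    ⟨((Scheme.Modules.restrictFunctorIsoPullback hU.fromSpec).app F).symm ≪≫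
      (@H10Coh.tildeIso _ (F.restrict hU.fromSpec) hq).symm⟩⟩
  haveI : Module.FinitePresentation Γ(X, hU.fromSpec ''ᵁ ⊤) Γ(F, hU.fromSpec ''ᵁ ⊤) := htop.symm ▸ h
  haveI : Module.FinitePresentation Γ(Spec Γ(X, U), ⊤) Γ(F.restrict hU.fromSpec, ⊤) :=
    H29Fitt.finitePresentation_of_semilinear (hU.fromSpec.appIso ⊤).hom.hom
      (ConcreteCategory.bijective_of_isIso (hU.fromSpec.appIso ⊤).hom)
      (F.restrictAppIso hU.fromSpec ⊤).inv.hom
      (fun a m => Scheme.Modules.smul_restrictAppIso_inv_apply hU.fromSpec F ⊤ a m)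
      (ConcreteCategory.bijective_of_isIso (F.restrictAppIso hU.fromSpec ⊤).inv)
  refine H29Fitt.finitePresentation_of_semilinear (M := Γ(F.restrict hU.fromSpec, ⊤))
    (Scheme.ΓSpecIso Γ(X, U)).hom.hom
    (ConcreteCategory.bijective_of_isIso (Scheme.ΓSpecIso Γ(X, U)).hom)
    (AddMonoidHom.id _) (fun a m => ?_) Function.bijective_id
  have h := Scheme.Modules.smul_Spec_def (M := F.restrict hU.fromSpec) (U := ⊤)
    ((Scheme.ΓSpecIso Γ(X, U)).hom a) m
  have hid : (⊤ : (Spec Γ(X, U)).Opens).leTop.op = 𝟙 _ := Subsingleton.elim _ _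
  rw [hid, CategoryTheory.Functor.map_id] at h
  refine Eq.trans ?_ h.symm
  exact congrArg (· • m) (congr($((Scheme.ΓSpecIso Γ(X, U)).hom_inv_id) a)).symm

/-- EGA IV 11.2.8, local form. -/
theorem isLocallyConstructible_fibFlatAt {X Y S : Scheme.{u}} (f : X ⟶ Y) (h : Y ⟶ S)
    [LocallyOfFinitePresentation h] [LocallyOfFinitePresentation (f ≫ h)] {F : X.Modules}
    (hF : CohB1.IsFP F) : IsLocallyConstructible {x : X | FibFlatAt f h F x} := by
  refine isLocallyConstructible_of_charts fun x => ?_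
  obtain ⟨O, hxO, hO⟩ := H06EGA11.exists_nhd_forall_finitePresentation F hF x
  obtain ⟨_, ⟨W, hW : IsAffineOpen W, rfl⟩, hxW, -⟩ :=
    S.isBasis_affineOpens.exists_subset_of_mem_open (Set.mem_univ (h (f x))) isOpen_univ
  obtain ⟨_, ⟨V, hV : IsAffineOpen V, rfl⟩, hxV, hVW⟩ :=
    Y.isBasis_affineOpens.exists_subset_of_mem_open (show f x ∈ h ⁻¹ᵁ W from hxW) (h ⁻¹ᵁ W).isOpen
  obtain ⟨_, ⟨U, hU : IsAffineOpen U, rfl⟩, hxU, hUV⟩ :=
    X.isBasis_affineOpens.exists_subset_of_mem_open (show x ∈ O ⊓ f ⁻¹ᵁ V from ⟨hxO, hxV⟩)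
      (O ⊓ f ⁻¹ᵁ V).isOpen
  have hVW' : V ≤ h ⁻¹ᵁ W := hVW
  have hUV' : U ≤ f ⁻¹ᵁ V := fun y hy => (hUV hy).2
  have hUW : U ≤ (f ≫ h) ⁻¹ᵁ W := fun y hy => hVW' (hUV' hy)
  haveI := hU.isOpenImmersion_fromSpec
  haveI := hV.isOpenImmersion_fromSpec
  haveI := hW.isOpenImmersion_fromSpec
  obtain ⟨M, hM, ⟨e⟩⟩ := exists_tilde_pullback_fromSpec (H29Fitt.isQCoh_of_isFP F hF) hU
    (hO U hU fun y hy => (hUV hy).1)
  letI := (h.appLE W V hVW').hom.toAlgebra
  letI := (f.appLE V U hUV').hom.toAlgebra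
  letI : Algebra Γ(S, W) Γ(X, U) := ((f ≫ h).appLE W U hUW).hom.toAlgebra
  haveI : IsScalarTower Γ(S, W) Γ(Y, V) Γ(X, U) := IsScalarTower.of_algebraMap_eq' (by
    rw [RingHom.algebraMap_toAlgebra, RingHom.algebraMap_toAlgebra, RingHom.algebraMap_toAlgebra,
      ← CommRingCat.hom_comp, Scheme.Hom.appLE_comp_appLE])
  haveI : Algebra.FinitePresentation Γ(S, W) Γ(Y, V) :=
    HasRingHomProperty.appLE @LocallyOfFinitePresentation h ‹_› ⟨W, hW⟩ ⟨V, hV⟩ hVW'
  haveI : Algebra.FinitePresentation Γ(S, W) Γ(X, U) :=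
    HasRingHomProperty.appLE @LocallyOfFinitePresentation (f ≫ h) ‹_› ⟨W, hW⟩ ⟨U, hU⟩ hUW
  refine ⟨_, hU.fromSpec, inferInstance, hU.range_fromSpec.ge hxU, ?_⟩
  refine Eq.mpr (congrArg IsConstructible (Set.ext fun q => ?_))
    (isConstructible_fibFlatAt_Spec (A := Γ(S, W)) (B := Γ(Y, V)) (C := Γ(X, U)) M)
  exact ((fibFlatAt_local_iff (IsAffineOpen.SpecMap_appLE_fromSpec f hV hU hUV').symm
    (IsAffineOpen.SpecMap_appLE_fromSpec h hW hV hVW').symm F q).symm.trans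
    (fibFlatAt_congr_iso _ _ e q))

end Groth.Agent.H06EGA9
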