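import Groth.Agent.H06EGA9.AtPoint
import Groth.Agent.H13Flat.SmoothDescent

/-!
# Descent of local properties through a morphism which is flat at a point (EGA IV 17.7)
-/

set_option autoImplicit false
set_option linter.style.haveILetI false
universe u

open CategoryTheory CategoryTheory.Limits AlgebraicGeometry TopologicalSpace Topology Set

namespace Groth.Agent.H06EGA9

variable {X Y S : Scheme.{u}}

/-- Flatness descends along a flat surjective source change. -/
theorem flat_of_comp_surjective_flat {U V : Scheme.{u}} (φ : U ⟶ V) (k : V ⟶ S) [Flat φ]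
    [Surjective φ] [Flat (φ ≫ k)] : Flat k := by
  rw [Flat.iff_flat_stalkMap]
  intro v
  obtain ⟨x, rfl⟩ := φ.surjective v
  exact (S4656.result φ k x (Flat.stalkMap φ x)).1 (Flat.stalkMap _ x)

/-- Formal unramifiedness descends along a flat surjective source change. -/
theorem formallyUnramified_of_comp_surjective_flat {U V : Scheme.{u}} (φ : U ⟶ V) (k : V ⟶ S)
    [Flat φ] [Surjective φ] [LocallyOfFiniteType k] [LocallyOfFiniteType φ]
    [FormallyUnramified (φ ≫ k)] : FormallyUnramified k := by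
  haveI : LocallyOfFinitePresentation (pullback.diagonal k) := by
    haveI : LocallyOfFinitePresentation (pullback.diagonal k ≫ pullback.fst k k) := by
      rw [pullback.diagonal_fst]; infer_instance
    exact H7Lim.locallyOfFinitePresentation_of_comp _ (pullback.fst k k)
  haveI : Flat (φ ≫ pullback.diagonal k) := by
    have hm : Flat (pullback.map (φ ≫ k) (φ ≫ k) k k φ φ (𝟙 _) (Category.comp_id _) (Category.comp_id _)) :=
      MorphismProperty.pullbackMap (P := @Flat) ‹Flat φ› ‹Flat φ› rfl rfl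
    have e : φ ≫ pullback.diagonal k = pullback.diagonal (φ ≫ k) ≫
        pullback.map (φ ≫ k) (φ ≫ k) k k φ φ (𝟙 _) (Category.comp_id _) (Category.comp_id _) := by
      apply pullback.hom_ext
      · simp only [Category.assoc, pullback.diagonal_fst, Category.comp_id]
        erw [pullback.lift_fst, pullback.diagonal_fst_assoc]
      · simp only [Category.assoc, pullback.diagonal_snd, Category.comp_id]
        erw [pullback.lift_snd, pullback.diagonal_snd_assoc]
    rw [e]
    exact MorphismProperty.comp_mem @Flat _ _ inferInstance hm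
  haveI : Flat (pullback.diagonal k) := flat_of_comp_surjective_flat φ _
  haveI : IsOpenImmersion (pullback.diagonal k) := IsOpenImmersion.of_flat_of_mono _
  infer_instance

/-- Near a point where `g` is flat, `g` is a flat, locally finitely presented cover of an open. -/
theorem exists_flat_cover (g : X ⟶ Y) [LocallyOfFinitePresentation g] (x : X)
    (hg : (g.stalkMap x).hom.Flat) (U₀ : X.Opens) (hx : x ∈ U₀) :
    ∃ (U : X.Opens) (V : Y.Opens) (φ : U.toScheme ⟶ V.toScheme), U ≤ U₀ ∧ x ∈ U ∧ g x ∈ V ∧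
      Flat φ ∧ LocallyOfFinitePresentation φ ∧ Surjective φ ∧ φ ≫ V.ι = U.ι ≫ g := by
  let U : X.Opens := U₀ ⊓ ⟨_, H8Props.FlatLocus.isOpen_setOf_flat_stalkMap g⟩
  haveI : Flat (U.ι ≫ g) := by
    rw [Flat.iff_flat_stalkMap]
    intro z
    exact (S4656.result U.ι g z (Flat.stalkMap _ _)).mpr z.2.2
  let V : Y.Opens := ⟨range (U.ι ≫ g), (U.ι ≫ g).isOpenMap.isOpen_range⟩
  let φ : U.toScheme ⟶ V.toScheme := IsOpenImmersion.lift V.ι (U.ι ≫ g) (by rw [Scheme.Opens.range_ι]; exact subset_rfl)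
  have hφ : φ ≫ V.ι = U.ι ≫ g := IsOpenImmersion.lift_fac _ _ _
  haveI : MorphismProperty.HasOfPostcompProperty @Flat.{u} (MorphismProperty.monomorphisms Scheme.{u}) :=
    MorphismProperty.IsStableUnderBaseChange.hasOfPostcompProperty_monomorphisms
  haveI : MorphismProperty.HasOfPostcompProperty @LocallyOfFinitePresentation.{u} (MorphismProperty.monomorphisms Scheme.{u}) :=
    MorphismProperty.IsStableUnderBaseChange.hasOfPostcompProperty_monomorphisms
  have hV : MorphismProperty.monomorphisms Scheme.{u} V.ι := inferInstanceAs (Mono V.ι)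
  refine ⟨U, V, φ, inf_le_left, ⟨hx, hg⟩, ⟨⟨x, hx, hg⟩, Scheme.Hom.comp_apply U.ι g _⟩, ?_, ?_, ?_, hφ⟩
  · exact MorphismProperty.of_postcomp (W := @Flat.{u}) φ V.ι hV
      (by rw [hφ]; infer_instance)
  · exact MorphismProperty.of_postcomp (W := @LocallyOfFinitePresentation.{u}) φ V.ι hV (by rw [hφ]; infer_instance)
  · refine ⟨fun v => ?_⟩
    obtain ⟨z, hz⟩ : V.ι v ∈ range (U.ι ≫ g) := v.2
    refine ⟨z, V.ι.isOpenEmbedding.injective ?_⟩
    rw [← Scheme.Hom.comp_apply, hφ]
    exact hz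

variable (f : Y ⟶ S) {h : X ⟶ S} [LocallyOfFinitePresentation f] [LocallyOfFinitePresentation h]
  {g : X ⟶ Y} (w : g ≫ f = h) (x : X) (hg : (g.stalkMap x).hom.Flat)
include w hg

theorem exists_cover_of_exists (P : MorphismProperty Scheme.{u}) 
    (hP : ∀ {A B : Scheme.{u}} (i : A ⟶ B) (k : B ⟶ S), IsOpenImmersion i → P k → P (i ≫ k))
    (hh : ∃ U : X.Opens, x ∈ U ∧ P (U.ι ≫ h)) :
    ∃ (U : X.Opens) (V : Y.Opens) (φ : U.toScheme ⟶ V.toScheme), g x ∈ V ∧
      Flat φ ∧ LocallyOfFinitePresentation φ ∧ Surjective φ ∧ P (φ ≫ V.ι ≫ f) := by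
  obtain ⟨U₀, hxU₀, hU₀⟩ := hh
  haveI : LocallyOfFinitePresentation (g ≫ f) := w ▸ ‹LocallyOfFinitePresentation h›
  haveI := H7Lim.locallyOfFinitePresentation_of_comp g f
  obtain ⟨U, V, φ, hle, -, hxV, h1, h2, h3, hφ⟩ := exists_flat_cover g x hg U₀ hxU₀
  refine ⟨U, V, φ, hxV, h1, h2, h3, ?_⟩
  rw [← Category.assoc, hφ, Category.assoc, w, ← X.homOfLE_ι hle, Category.assoc]
  exact hP _ _ inferInstance hU₀

theorem exists_smooth_of_flat (hh : ∃ U : X.Opens, x ∈ U ∧ Smooth (U.ι ≫ h)) :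
    ∃ V : Y.Opens, g x ∈ V ∧ Smooth (V.ι ≫ f) := by
  obtain ⟨U, V, φ, hxV, h1, h2, h3, h4⟩ :=
    exists_cover_of_exists f w x hg @Smooth (fun i k _ _ => inferInstance) hh
  exact ⟨V, hxV, H13Flat.smooth_of_fppf_covering _ fun v => ⟨_, φ, h1, h2, h3.surj v, h4⟩⟩

theorem exists_etale_of_flat (hh : ∃ U : X.Opens, x ∈ U ∧ Etale (U.ι ≫ h)) :
    ∃ V : Y.Opens, g x ∈ V ∧ Etale (V.ι ≫ f) := by
  obtain ⟨U, V, φ, hxV, h1, h2, h3, h4⟩ :=
    exists_cover_of_exists f w x hg @Etale (fun i k _ _ => inferInstance) hh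
  exact ⟨V, hxV, H13Flat.etale_of_fppf_covering _ fun v => ⟨_, φ, h1, h2, h3.surj v, h4⟩⟩

theorem exists_formallyUnramified_of_flat
    (hh : ∃ U : X.Opens, x ∈ U ∧ FormallyUnramified (U.ι ≫ h)) :
    ∃ V : Y.Opens, g x ∈ V ∧ FormallyUnramified (V.ι ≫ f) := by
  obtain ⟨U, V, φ, hxV, _, _, _, _⟩ :=
    exists_cover_of_exists f w x hg @FormallyUnramified
      (fun i k _ hk => MorphismProperty.comp_mem @FormallyUnramified i k inferInstance hk) hh
  exact ⟨V, hxV, formallyUnramified_of_comp_surjective_flat φ _⟩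

end Groth.Agent.H06EGA9
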