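import Mathlib
import Groth.Agent.H17.ConsPropBasic
import Groth.Agent.H7Lim.Topology
import Groth.Agent.H7Lim.DescendUnramified
import Groth.Agent.S4599

/-!
# Fibre maps written with chosen pullbacks; surjective and radicial loci (EGA IV 9.3.2, 9.6.1)
-/

set_option autoImplicit false
set_option linter.style.haveILetI false
universe u

open CategoryTheory Limits AlgebraicGeometry Topology Set

namespace Groth.Agent.H06EGA9

variable {X Y S : Scheme.{u}} (f : X ⟶ Y) (g : Y ⟶ S) (s : S)

/-- The map of fibres over `s` induced by `f`, between chosen pullbacks. -/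
noncomputable abbrev fibMap :
    pullback (f ≫ g) (S.fromSpecResidueField s) ⟶ pullback g (S.fromSpecResidueField s) :=
  pullback.lift (pullback.fst (f ≫ g) (S.fromSpecResidueField s) ≫ f)
    (pullback.snd (f ≫ g) (S.fromSpecResidueField s))
    ((Category.assoc _ _ _).trans pullback.condition)

theorem isPullback_fibMap :
    IsPullback (pullback.fst (f ≫ g) (S.fromSpecResidueField s)) (fibMap f g s) f
      (pullback.fst g (S.fromSpecResidueField s)) := by
  refine IsPullback.of_bot (v₂₁ := pullback.snd g (S.fromSpecResidueField s)) (v₂₂ := g)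
    (h₃₁ := S.fromSpecResidueField s) ?_ ?_ (IsPullback.of_hasPullback g (S.fromSpecResidueField s))
  · rw [fibMap, pullback.lift_snd]
    exact IsPullback.of_hasPullback (f ≫ g) (S.fromSpecResidueField s)
  · rw [fibMap, pullback.lift_fst]

theorem range_fst : range (pullback.fst g (S.fromSpecResidueField s)).base = g ⁻¹' {s} :=
  g.range_fiberι s

theorem surjective_fibMap_iff :
    Function.Surjective (fibMap f g s).base ↔ g ⁻¹' {s} ⊆ range f := by
  constructor
  · intro h y hy
    obtain ⟨y', rfl⟩ := (range_fst g s).symm.subset hy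
    obtain ⟨x', rfl⟩ := h y'
    exact ⟨pullback.fst (f ≫ g) (S.fromSpecResidueField s) x', by
      rw [← Scheme.Hom.comp_apply, ← Scheme.Hom.comp_apply, (isPullback_fibMap f g s).w]⟩
  · intro h y'
    obtain ⟨x, hx⟩ := h ((range_fst g s).subset (mem_range_self y'))
    obtain ⟨x', -, hx'⟩ := Scheme.exists_preimage_of_isPullback (isPullback_fibMap f g s) x y' hx
    exact ⟨x', hx'⟩

theorem isLocallyConstructible_setOf_fibre_subset [LocallyOfFinitePresentation g] [QuasiCompact g]
    {E : Set Y} (hE : IsLocallyConstructible E) :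
    IsLocallyConstructible {s : S | g ⁻¹' {s} ⊆ E} := by
  have : {s : S | g ⁻¹' {s} ⊆ E} = (g '' Eᶜ)ᶜ := by
    ext s
    exact ⟨fun h ⟨y, hy, hys⟩ => hy (h hys), fun h y hys => by_contra fun hy => h ⟨y, hy, hys⟩⟩
  rw [this]
  exact H7Lim.isLocallyConstructible_compl
    (g.isLocallyConstructible_image (H7Lim.isLocallyConstructible_compl hE))

theorem universallyInjective_fibMap_iff :
    UniversallyInjective (fibMap f g s) ↔
      (pullback.fst f f ≫ f ≫ g) ⁻¹' {s} ⊆ range (pullback.diagonal f) := by
  rw [H17.ConsProp.universallyInjective_iff_of_mono (isPullback_fibMap f g s), range_fst]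
  simp only [Set.subset_def, Set.mem_preimage, Set.mem_singleton_iff, Scheme.Hom.comp_apply]

end Groth.Agent.H06EGA9
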