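import Mathlib
import Groth.Agent.H17.LocusBC
import Groth.Agent.H17.OmegaStalk
import Groth.Agent.H06EGA9.FibreMap
import Groth.Agent.S6285
import Groth.Agent.H7Flat.FibreDimConstructible

/-!
# The unramified locus of a morphism locally of finite presentation is locally constructible
-/

set_option autoImplicit false
set_option linter.style.haveILetI false
universe u

open CategoryTheory Limits AlgebraicGeometry Topology Set

namespace Groth.Agent.H06EGA9

variable {X Y X' Y' : Scheme.{u}} (f : X ⟶ Y)

/-- The points at which `f` is formally unramified. -/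
def unramSet : Set X := {x | (f.stalkMap x).hom.FormallyUnramified}

theorem formallyUnramified_stalkMap_Spec_iff {R A : Type u} [CommRing R] [CommRing A] [Algebra R A]
    (q : PrimeSpectrum A) :
    ((Spec.map (CommRingCat.ofHom (algebraMap R A))).stalkMap q).hom.FormallyUnramified ↔
      Algebra.IsUnramifiedAt R q.asIdeal := by
  refine ⟨H17.LocusBC.isUnramifiedAt_of_stalkMap_Spec q, fun H => ?_⟩
  let p := (q.comap (algebraMap R A)).asIdeal
  have : q.asIdeal.LiesOver p := ⟨rfl⟩
  let := Localization.AtPrime.algebraOfLiesOver p q.asIdeal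
  have := RingHom.toMorphismProperty_respectsIso_iff.mp RingHom.FormallyUnramified.respectsIso
  refine ((RingHom.toMorphismProperty @RingHom.FormallyUnramified).arrow_mk_iso_iff
    (Scheme.arrowStalkMapSpecIso (CommRingCat.ofHom (algebraMap R A)) q)).mpr ?_
  exact RingHom.formallyUnramified_algebraMap.mpr
    (Algebra.FormallyUnramified.of_restrictScalars R (Localization.AtPrime p) (Localization.AtPrime q.asIdeal))

theorem preimage_unramSet_chart {R A : Type u} [CommRing R] [CommRing A] [Algebra R A]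
    (a : Spec (.of A) ⟶ X) (b : Spec (.of R) ⟶ Y) [IsOpenImmersion a] [IsOpenImmersion b]
    (w : Spec.map (CommRingCat.ofHom (algebraMap R A)) ≫ b = a ≫ f) :
    a ⁻¹' unramSet f = Algebra.unramifiedLocus R A := by
  ext q
  exact (H17.LocusBC.formallyUnramified_stalkMap_comp_iff a f b _ w q).symm.trans
    (formallyUnramified_stalkMap_Spec_iff q)

theorem exists_affine_chart (x : X) :
    ∃ (R A : Type u) (_ : CommRing R) (_ : CommRing A) (_ : Algebra R A)
      (a : Spec (.of A) ⟶ X) (b : Spec (.of R) ⟶ Y),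
      IsOpenImmersion a ∧ IsOpenImmersion b ∧ x ∈ range a ∧
      Spec.map (CommRingCat.ofHom (algebraMap R A)) ≫ b = a ≫ f := by
  obtain ⟨_, ⟨V, hV, rfl⟩, hxV, -⟩ :=
    Y.isBasis_affineOpens.exists_subset_of_mem_open (Set.mem_univ (f x)) isOpen_univ
  obtain ⟨_, ⟨U, hU, rfl⟩, hx, hle⟩ :=
    X.isBasis_affineOpens.exists_subset_of_mem_open (show x ∈ (f ⁻¹ᵁ V : Set X) from hxV) (f ⁻¹ᵁ V).2
  exact ⟨Γ(Y, V), Γ(X, U), inferInstance, inferInstance, (f.appLE V U hle).hom.toAlgebra,
    hU.fromSpec, hV.fromSpec, hU.isOpenImmersion_fromSpec, hV.isOpenImmersion_fromSpec, hU.range_fromSpec.ge hx,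
    IsAffineOpen.SpecMap_appLE_fromSpec f hV hU hle⟩

theorem isOpen_unramSet [LocallyOfFiniteType f] : IsOpen (unramSet f) := by
  refine isOpen_iff_forall_mem_open.mpr fun x hx => ?_
  obtain ⟨R, A, _, _, _, a, b, _, _, ⟨q, rfl⟩, w⟩ := exists_affine_chart f x
  have := H17.LocusBC.finiteType_of_chart f a b w
  refine ⟨a '' Algebra.unramifiedLocus R A, ?_, a.isOpenEmbedding.isOpenMap _ Algebra.isOpen_unramifiedLocus,
    mem_image_of_mem _ ((preimage_unramSet_chart f a b w).le hx)⟩
  rw [← preimage_unramSet_chart f a b w]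
  exact image_preimage_subset _ _

theorem isConstructible_unramifiedLocus (R A : Type u) [CommRing R] [CommRing A] [Algebra R A]
    [Algebra.FinitePresentation R A] : IsConstructible (Algebra.unramifiedLocus R A) := by
  refine IsCompact.isConstructible ?_ Algebra.isOpen_unramifiedLocus
  rw [Algebra.unramifiedLocus_eq_compl_support]
  exact (Groth.Agent.S6285.result A Ω[A⁄R]).2

theorem isLocallyConstructible_unramSet [LocallyOfFinitePresentation f] :
    IsLocallyConstructible (unramSet f) := by
  intro x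
  obtain ⟨R, A, _, _, _, a, b, _, _, hx, w⟩ := exists_affine_chart f x
  have := H17.LocusBC.finitePresentation_of_chart f a b w
  refine ⟨range a, a.isOpenEmbedding.isOpen_range.mem_nhds hx, a.isOpenEmbedding.isOpen_range, ?_⟩
  let e := a.isOpenEmbedding.toIsEmbedding.toHomeomorph
  have h1 : IsConstructible (a ⁻¹' unramSet f) := by
    rw [preimage_unramSet_chart f a b w]
    exact isConstructible_unramifiedLocus R A
  have h2 : e '' (a ⁻¹' unramSet f) = Subtype.val ⁻¹' unramSet f := by
    ext ⟨y, z, rfl⟩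
    constructor
    · rintro ⟨z', hz', he⟩
      have h3 : a z' = a z := congrArg Subtype.val he
      show a z ∈ unramSet f
      rw [← h3]
      exact hz'
    · exact fun h => ⟨z, h, Subtype.ext rfl⟩
  rw [← h2]
  exact h1.image_of_isOpenEmbedding e.isOpenEmbedding (by rw [e.surjective.range_eq]; exact IsRetrocompact.univ)

theorem formallyUnramified_iff_unramSet [LocallyOfFiniteType f] :
    FormallyUnramified f ↔ unramSet f = univ := by
  refine ⟨fun _ => eq_univ_of_forall fun x => FormallyUnramified.stalkMap f x, fun h => ?_⟩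
  refine ⟨fun {U} hU {V} hV e => ?_⟩
  algebraize [(f.appLE U V e).hom]
  refine Algebra.formallyUnramified_iff_forall.2 fun q => ?_
  have hq := (H17.OmegaStalk.formallyUnramified_stalkMap_iff hV hU e
    (x := hV.fromSpec q) (hV.range_fromSpec.le (mem_range_self q))).1 (eq_univ_iff_forall.1 h _)
  have : hV.primeIdealOf ⟨hV.fromSpec q, hV.range_fromSpec.le (mem_range_self q)⟩ = q :=
    hV.fromSpec.isOpenEmbedding.injective (hV.fromSpec_primeIdealOf _)
  rwa [this] at hq

theorem exists_nhd_of_mem_unramSet [LocallyOfFiniteType f] {x : X} (hx : x ∈ unramSet f) :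
    ∃ U : X.Opens, x ∈ U ∧ FormallyUnramified (U.ι ≫ f) := by
  refine ⟨⟨unramSet f, isOpen_unramSet f⟩, hx, (formallyUnramified_iff_unramSet _).2 ?_⟩
  refine eq_univ_of_forall fun z => ?_
  exact (H17.LocusBC.formallyUnramified_stalkMap_comp_iff _ f (𝟙 Y) _ (Category.comp_id _) z).2 z.2

theorem mem_unramSet_baseChange_iff {g' : X' ⟶ X} {f' : X' ⟶ Y'} {g : Y' ⟶ Y}
    (h : IsPullback g' f' f g) [LocallyOfFiniteType f] (x' : X') :
    x' ∈ unramSet f' ↔ g' x' ∈ unramSet f := by
  haveI : LocallyOfFiniteType f' := MorphismProperty.of_isPullback h ‹_›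
  constructor
  · intro hx
    obtain ⟨U', hU', _⟩ := exists_nhd_of_mem_unramSet f' hx
    obtain ⟨U, hU, _⟩ := H17.LocusBC.exists_formallyUnramified_of_baseChange h x' U' hU'
    exact H17.LocusBC.formallyUnramified_stalkMap_of_nhd f U hU
  · intro hx
    obtain ⟨U, hU, _⟩ := exists_nhd_of_mem_unramSet f hx
    haveI := H17.LocusBC.formallyUnramified_preimage h U
    exact H17.LocusBC.formallyUnramified_stalkMap_of_nhd f' _ (show x' ∈ g' ⁻¹ᵁ U from hU)

theorem formallyUnramified_iff_of_isPullback {g' : X' ⟶ X} {f' : X' ⟶ Y'} {g : Y' ⟶ Y}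
    (h : IsPullback g' f' f g) [LocallyOfFiniteType f] :
    FormallyUnramified f' ↔ f ⁻¹' range g ⊆ unramSet f := by
  haveI : LocallyOfFiniteType f' := MorphismProperty.of_isPullback h ‹_›
  rw [formallyUnramified_iff_unramSet, eq_univ_iff_forall, forall_congr' (mem_unramSet_baseChange_iff f h)]
  constructor
  · rintro h1 x ⟨y, hy⟩
    obtain ⟨x', rfl, -⟩ := Scheme.exists_preimage_of_isPullback h x y hy.symm
    exact h1 x'
  · exact fun h1 x' => h1 ⟨f' x', by rw [← Scheme.Hom.comp_apply, ← Scheme.Hom.comp_apply, h.w]⟩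

theorem lqf_iff_of_isPullback {g' : X' ⟶ X} {f' : X' ⟶ Y'} {g : Y' ⟶ Y}
    (h : IsPullback g' f' f g) [LocallyOfFiniteType f] [QuasiCompact f] :
    LocallyQuasiFinite f' ↔ range g ⊆ {y | topologicalKrullDim (f.fiber y) ≤ 0} := by
  haveI : LocallyOfFiniteType f' := MorphismProperty.of_isPullback h ‹_›
  haveI : QuasiCompact f' := MorphismProperty.of_isPullback h ‹_›
  rw [H17.ConsProp.lqf_iff_fibreDimAt]
  constructor
  · rintro h1 _ ⟨y, rfl⟩
    refine (H7Flat.dim_fiber_le_iff f _ 0).2 fun x hx => ?_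
    obtain ⟨x', rfl, -⟩ := Scheme.exists_preimage_of_isPullback h x y hx
    exact (H8Props.FieldDim.fibreDimAt_baseChange f h x').symm.trans_le (h1 x')
  · intro h1 x'
    rw [H8Props.FieldDim.fibreDimAt_baseChange f h]
    refine (H7Flat.dim_fiber_le_iff f _ 0).1 (h1 (mem_range_self (f' x'))) _ ?_
    rw [← Scheme.Hom.comp_apply, ← Scheme.Hom.comp_apply, h.w]

theorem mono_iff [LocallyOfFiniteType f] :
    Mono f ↔ UniversallyInjective f ∧ FormallyUnramified f := by
  constructor
  · intro _
    haveI : IsIso (pullback.diagonal f) := inferInstance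
    exact ⟨(UniversallyInjective.iff_diagonal f).2 inferInstance, inferInstance⟩
  · rintro ⟨_, _⟩
    haveI : Surjective (pullback.diagonal f) := (UniversallyInjective.iff_diagonal f).1 ‹_›
    haveI : IsIso (pullback.diagonal f) := isIso_of_isOpenImmersion_of_opensRange_eq_top _
      (TopologicalSpace.Opens.ext (pullback.diagonal f).surjective.range_eq)
    exact (pullback.isIso_diagonal_iff f).1 inferInstance

theorem formallyUnramified_fibMap_iff {S : Scheme.{u}} (g : Y ⟶ S) (s : S) [LocallyOfFiniteType f] :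
    FormallyUnramified (fibMap f g s) ↔ (f ≫ g) ⁻¹' {s} ⊆ unramSet f := by
  rw [formallyUnramified_iff_of_isPullback f (isPullback_fibMap f g s), range_fst]
  rfl

end Groth.Agent.H06EGA9
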