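import Groth.Agent.H8Props.FieldDimFibre
import Mathlib.AlgebraicGeometry.Morphisms.UniversallyOpen

/-!
# Dimension of points of products over a field and of base field extensions (EGA IV 4.1, 5.2)
-/

set_option autoImplicit false
set_option linter.style.haveILetI false
set_option backward.isDefEq.respectTransparency false
universe u

open CategoryTheory Limits AlgebraicGeometry Topology Set TopologicalSpace

namespace Groth.Agent.H06EGA9

open Groth.Agent.H8Props.FieldDim

/-- The dimension of an irreducible closed set is that of the closure of its generic point. -/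
theorem dim_eq_cdim_of_isGenericPoint {α : Type*} [TopologicalSpace α] {z : α} {T : Set α}
    (h : IsGenericPoint z T) : topologicalKrullDim ↥T = cdim z := by
  unfold cdim
  rw [h.def]

theorem eq_of_specializes_of_component {α : Type*} [TopologicalSpace α] [T0Space α] {T : Set α} {z z' : α}
    (hT : T ∈ irreducibleComponents α) (hz : IsGenericPoint z T) (h : z' ⤳ z) : z' = z := by
  have hsub : T ⊆ closure {z'} :=
    hz.def ▸ closure_minimal (singleton_subset_iff.mpr h.mem_closure) isClosed_closure
  have heq : closure {z'} = T := hT.eq_of_ge isIrreducible_singleton.closure hsub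
  exact IsGenericPoint.eq (show IsGenericPoint z' T from heq) hz

theorem mem_irreducibleComponents_of_maximal {Z : Scheme.{u}} {z : Z} (h : ∀ z' : Z, z' ⤳ z → z' = z) :
    closure {z} ∈ irreducibleComponents Z := by
  obtain ⟨η, hη, hc⟩ := exists_component_generization z
  rwa [h η hη] at hc

theorem cdim_asFiber {P Y : Scheme.{u}} (q : P ⟶ Y) {y : Y} (v : q.fiber y) :
    cdim (q.asFiber (q.fiberι y v)) = cdim v := by
  have hy : q (q.fiberι y v) = y := (q.range_fiberι y).le (mem_range_self v)
  generalize hw : q.fiberι y v = w at hy ⊢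
  subst hy
  rw [show q.asFiber w = v from (q.fiberι _).isEmbedding.injective ((q.fiberι_asFiber w).trans hw.symm)]

variable {k : Type u} [Field k] {X Y P : Scheme.{u}} {f : X ⟶ Spec (CommRingCat.of k)}
  {g : Y ⟶ Spec (CommRingCat.of k)} {p : P ⟶ X} {q : P ⟶ Y} (h : IsPullback p q f g)
  [LocallyOfFiniteType f] [LocallyOfFiniteType g]

include h in
/-- The fibres of a product are base changes of the other factor. -/
theorem exists_fiber_bc (y : Y) : ∃ alg : Algebra k (Y.residueField y),
    IsPullback (q.fiberι y ≫ p) (q.fiberToSpecResidueField y) f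
      (Spec.map (CommRingCat.ofHom (@algebraMap k (Y.residueField y) _ _ alg))) ∧
    Y.fromSpecResidueField y ≫ g = Spec.map (CommRingCat.ofHom (@algebraMap k (Y.residueField y) _ _ alg)) := by
  let θ := Spec.preimage (Y.fromSpecResidueField y ≫ g)
  refine ⟨θ.hom.toAlgebra, ?_, (Spec.map_preimage _).symm⟩
  show IsPullback _ _ f (Spec.map θ)
  rw [Spec.map_preimage]
  exact (IsPullback.of_hasPullback q (Y.fromSpecResidueField y)).paste_horiz h

include h in
/-- Additivity of the dimensions of closures along a projection of a product. -/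
theorem cdim_eq_add (z : P) : cdim z = cdim (q.asFiber z) + cdim (q z) := by
  haveI : LocallyOfFiniteType q := MorphismProperty.of_isPullback h ‹_›
  obtain ⟨algY, -, hY⟩ := exists_fiber_bc h (q z)
  letI := algY
  letI : Algebra (Y.residueField (q z)) (P.residueField z) := (q.residueFieldMap z).hom.toAlgebra
  letI : Algebra k (P.residueField z) :=
    ((algebraMap (Y.residueField (q z)) (P.residueField z)).comp (algebraMap k (Y.residueField (q z)))).toAlgebra
  haveI : IsScalarTower k (Y.residueField (q z)) (P.residueField z) := IsScalarTower.of_algebraMap_eq fun _ => rfl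
  have hz : P.fromSpecResidueField z ≫ q ≫ g =
      Spec.map (CommRingCat.ofHom (algebraMap k (P.residueField z))) := by
    rw [← Scheme.Hom.SpecMap_residueFieldMap_fromSpecResidueField_assoc, hY, ← Spec.map_comp]
    rfl
  obtain ⟨a, ha, ha'⟩ := exists_trdeg (q ≫ g) (L := P.residueField z) (P.fromSpecResidueField z) hz
    (IsLocalRing.closedPoint _)
  obtain ⟨b, hb, hb'⟩ := exists_trdeg g (L := Y.residueField (q z)) (Y.fromSpecResidueField (q z)) hY
    (IsLocalRing.closedPoint _)
  haveI := locallyOfFiniteType_fiberToSpec q (q z)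
  obtain ⟨c, hc, hc'⟩ := exists_trdeg (k := Y.residueField (q z)) (q.fiberToSpecResidueField (q z))
    (L := P.residueField z) (q.asFiberHom z) (q.asFiberHom_fiberToSpecResidueField z) (IsLocalRing.closedPoint _)
  erw [Scheme.fromSpecResidueField_apply] at ha hb
  erw [q.asFiberHom_apply] at hc
  have hadd := trdeg_add_eq k (Y.residueField (q z)) (A := P.residueField z)
  rw [ha', hb', hc', ← Nat.cast_add] at hadd
  rw [ha, hb, hc, ← Nat.cast_inj.mp hadd, add_comm b c]
  push_cast
  rfl

include h in
theorem cdim_le_add (z : P) : cdim z ≤ cdim (p z) + cdim (q z) := by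
  rw [cdim_eq_add h z]
  obtain ⟨alg, hbc, -⟩ := exists_fiber_bc h (q z)
  letI := alg
  have h1 := (baseChange_point (K := Y.residueField (q z)) f _ _ hbc (q.asFiber z)).1
  rw [Scheme.Hom.comp_apply, q.fiberι_asFiber] at h1
  exact add_le_add_left h1 _ |>.trans_eq rfl

include h in
/-- Any pair of points is dominated by a point of additive dimension. -/
theorem exists_point_add (x : X) (y : Y) : ∃ z : P, p z = x ∧ q z = y ∧ cdim z = cdim x + cdim y := by
  obtain ⟨alg, hbc, -⟩ := exists_fiber_bc h y
  letI := alg
  haveI : Surjective (Spec.map (CommRingCat.ofHom (algebraMap k (Y.residueField y)))) :=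
    ⟨Function.surjective_to_subsingleton (α := PrimeSpectrum (Y.residueField y)) (β := PrimeSpectrum k) _⟩
  haveI : Surjective (q.fiberι y ≫ p) := MorphismProperty.of_isPullback hbc.flip ‹_›
  obtain ⟨v, hv⟩ := (q.fiberι y ≫ p).surjective x
  obtain ⟨v', -, hv', hd⟩ := (baseChange_point (K := Y.residueField y) f _ _ hbc v).2 x (hv ▸ specializes_rfl)
  rw [Scheme.Hom.comp_apply] at hv'
  have hq : q (q.fiberι y v') = y := (q.range_fiberι y).le (mem_range_self v')
  refine ⟨q.fiberι y v', hv', hq, ?_⟩
  rw [cdim_eq_add h, cdim_asFiber q v', hd, hq]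

include h in
/-- A maximal point of a product projects to maximal points and has additive dimension. -/
theorem maximal_fst (z : P) (hz : ∀ z', z' ⤳ z → z' = z) :
    (∀ η, η ⤳ p z → η = p z) ∧ cdim z = cdim (p z) + cdim (q z) := by
  obtain ⟨alg, hbc, -⟩ := exists_fiber_bc h (q z)
  letI := alg
  have key : ∀ η, η ⤳ p z → η = p z ∧ cdim (q.asFiber z) = cdim η := by
    intro η hη
    obtain ⟨v, hv, hve, hd⟩ := (baseChange_point (K := Y.residueField (q z)) f _ _ hbc (q.asFiber z)).2 η (by
      rwa [Scheme.Hom.comp_apply, q.fiberι_asFiber])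
    have h1 : q.fiberι (q z) v = z := hz _ (by simpa [q.fiberι_asFiber] using hv.map (q.fiberι (q z)).continuous)
    rw [Scheme.Hom.comp_apply, h1] at hve
    have h2 : v = q.asFiber z := (q.fiberι (q z)).isEmbedding.injective (h1.trans (q.fiberι_asFiber z).symm)
    exact ⟨hve.symm, by rw [← h2, hd]⟩
  exact ⟨fun η hη => (key η hη).1, by rw [cdim_eq_add h z, (key _ specializes_rfl).2]⟩

include h in
theorem maximal_snd (z : P) (hz : ∀ z', z' ⤳ z → z' = z) : ∀ η, η ⤳ q z → η = q z :=
  (maximal_fst h.flip z hz).1

theorem cdim_subtype {α : Type u} [TopologicalSpace α] {S : Set α} (hS : IsClosed S) (x : S) :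
    cdim x = cdim x.1 := by
  unfold cdim
  rw [IsEmbedding.subtypeVal.closure_eq_preimage_closure_image, Set.image_singleton,
    dim_preimage IsEmbedding.subtypeVal, Subtype.range_coe,
    inter_eq_left.mpr (closure_minimal (singleton_subset_iff.mpr x.2) hS)]

theorem dim_le_of_forall_cdim_le {α : Type u} [TopologicalSpace α] [QuasiSober α] {S : Set α} (hS : IsClosed S)
    (d : WithBot ℕ∞) (h : ∀ x ∈ S, cdim x ≤ d) : topologicalKrullDim S ≤ d := by
  haveI : QuasiSober S := hS.isClosedEmbedding_subtypeVal.quasiSober
  rw [dim_eq_iSup_cdim]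
  exact iSup_le fun x => (cdim_subtype hS x).trans_le (h x x.2)

/-- Generizations lift along a projection inside the preimage of a closed subset of the other factor. -/
theorem exists_generization_mem {k : Type u} [Field k] {X Y P : Scheme.{u}} {f : X ⟶ Spec (CommRingCat.of k)}
    {g : Y ⟶ Spec (CommRingCat.of k)} {p : P ⟶ X} {q : P ⟶ Y} (h : IsPullback p q f g)
    {C : Set Y} (hC : IsClosed C) (z : P) (hz : q z ∈ C) (η : X) (hη : η ⤳ p z) :
    ∃ z', z' ⤳ z ∧ p z' = η ∧ q z' ∈ C := by
  let I := Scheme.IdealSheafData.vanishingIdeal (X := Y) ⟨C, hC⟩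
  have hI : Set.range I.subschemeι = C := by
    rw [I.range_subschemeι, Scheme.IdealSheafData.coe_support_vanishingIdeal]; rfl
  obtain ⟨c, hc⟩ := hI.ge hz
  obtain ⟨w, hw1, -⟩ := Scheme.Pullback.exists_preimage_pullback z c (f := q) (g := I.subschemeι) hc.symm
  haveI : Flat (I.subschemeι ≫ g) := inferInstance
  haveI : Flat (pullback.fst q I.subschemeι ≫ p) :=
    MorphismProperty.of_isPullback ((IsPullback.of_hasPullback q I.subschemeι).paste_horiz h).flip ‹_›
  obtain ⟨w', hw', hw'η⟩ := Flat.generalizingMap (pullback.fst q I.subschemeι ≫ p)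
    (show η ⤳ (pullback.fst q I.subschemeι ≫ p) w by rwa [Scheme.Hom.comp_apply, hw1])
  refine ⟨pullback.fst q I.subschemeι w', hw1 ▸ hw'.map (pullback.fst q I.subschemeι).continuous,
    (Scheme.Hom.comp_apply _ _ _).symm.trans hw'η, ?_⟩
  rw [← Scheme.Hom.comp_apply, pullback.condition, Scheme.Hom.comp_apply, ← hI]
  exact mem_range_self _

end Groth.Agent.H06EGA9
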