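import Mathlib
import Groth.Prelude.Def_FlatMod2
import Groth.Agent.H06EGA9.QuotFlat
import Groth.Agent.H06Mod.StalkBaseChange
import Groth.Agent.H8Props.FibreStalk

/-!
# Flatness of a module on the fibres of an `S`-morphism (EGA IV 11.3.10, 11.2.8)
-/

set_option autoImplicit false
set_option linter.style.haveILetI false
universe u

open CategoryTheory CategoryTheory.Limits AlgebraicGeometry TensorProduct IsLocalRing

namespace Groth.Agent.H06EGA9

attribute [local instance] H06Mod.stalkAlgebra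

variable {X Y S X' Y' : Scheme.{u}}

/-- `F_x / m_s F_x` is flat over `O_{Y, f x} / m_s O_{Y, f x}`. -/
def FibFlatAt (f : X ⟶ Y) (h : Y ⟶ S) (F : X.Modules) (x : X) : Prop :=
  letI := FlatMod.moduleStalkOver f F x
  QuotFlat (Y.presheaf.stalk (f x))
    (Ideal.map (h.stalkMap (f x)).hom (maximalIdeal (S.presheaf.stalk (h (f x)))))
    (F.presheaf.stalk x)

theorem sq_apply {f : X ⟶ Y} {f' : X' ⟶ Y'} {jX : X' ⟶ X} {jY : Y' ⟶ Y}
    (w : jX ≫ f = f' ≫ jY) (x' : X') : jY (f' x') = f (jX x') := by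
  rw [← Scheme.Hom.comp_apply, ← Scheme.Hom.comp_apply, w]

/-- Stalk maps of a commutative square. -/
theorem stalk_comm {f : X ⟶ Y} {f' : X' ⟶ Y'} {jX : X' ⟶ X} {jY : Y' ⟶ Y}
    (w : jX ≫ f = f' ≫ jY) (x' : X') :
    (Y.presheaf.stalkSpecializes (specializes_of_eq (sq_apply w x')) ≫ jY.stalkMap (f' x')) ≫
      f'.stalkMap x' = f.stalkMap (jX x') ≫ jX.stalkMap x' := by
  apply Spec.map_injective
  rw [← cancel_mono (Y.fromSpecStalk (f (jX x')))]
  simp only [Spec.map_comp, Category.assoc, Scheme.SpecMap_stalkSpecializes_fromSpecStalk,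
    Scheme.SpecMap_stalkMap_fromSpecStalk]
  rw [Scheme.SpecMap_stalkMap_fromSpecStalk_assoc, Scheme.SpecMap_stalkMap_fromSpecStalk_assoc, w]

/-- Flatness of a pullback along a square that is surjective on local rings. -/
theorem isFlatOverAt_pullback_iff_quotFlat {f : X ⟶ Y} {f' : X' ⟶ Y'} {jX : X' ⟶ X} {jY : Y' ⟶ Y}
    (w : jX ≫ f = f' ≫ jY) (F : X.Modules) (x' : X') (J : Ideal (Y.presheaf.stalk (f (jX x'))))
    (hY : Function.Surjective
      (Y.presheaf.stalkSpecializes (specializes_of_eq (sq_apply w x')) ≫ jY.stalkMap (f' x')).hom)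
    (hYker : RingHom.ker
      (Y.presheaf.stalkSpecializes (specializes_of_eq (sq_apply w x')) ≫ jY.stalkMap (f' x')).hom = J)
    (hX : Function.Surjective (jX.stalkMap x').hom)
    (hXker : RingHom.ker (jX.stalkMap x').hom = J.map (f.stalkMap (jX x')).hom) :
    letI := FlatMod.moduleStalkOver f F (jX x')
    FlatMod.IsFlatOverAt f' ((Scheme.Modules.pullback jX).obj F) x' ↔
      QuotFlat (Y.presheaf.stalk (f (jX x'))) J (F.presheaf.stalk (jX x')) := by
  let σ := Y.presheaf.stalkSpecializes (specializes_of_eq (sq_apply w x')) ≫ jY.stalkMap (f' x')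
  have hw := stalk_comm w x'
  letI := FlatMod.moduleStalkOver f F (jX x')
  letI : Algebra (Y.presheaf.stalk (f (jX x'))) (X.presheaf.stalk (jX x')) :=
    (f.stalkMap (jX x')).hom.toAlgebra
  haveI : IsScalarTower (Y.presheaf.stalk (f (jX x'))) (X.presheaf.stalk (jX x'))
      (F.presheaf.stalk (jX x')) := .of_algebraMap_smul fun _ _ => rfl
  letI : Algebra (X.presheaf.stalk (jX x')) (X'.presheaf.stalk x') := H06Mod.stalkAlgebra jX x'
  let e := H06Mod.pullStalkEquiv jX F x'
  let M' := ((Scheme.Modules.pullback jX).obj F).presheaf.stalk x'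
  let l : F.presheaf.stalk (jX x') →+ M' :=
    { toFun := fun m => e (1 ⊗ₜ m)
      map_zero' := by rw [tmul_zero, map_zero]
      map_add' := fun a b => by rw [tmul_add, map_add] }
  letI : Module (Y'.presheaf.stalk (f' x')) M' :=
    FlatMod.moduleStalkOver f' ((Scheme.Modules.pullback jX).obj F) x'
  refine (quotFlat_iff (R' := Y'.presheaf.stalk (f' x')) (N' := M') J σ.hom hY hYker l ?_ ?_ ?_).symm
  · intro y
    obtain ⟨z, rfl⟩ := e.surjective y
    suffices ∀ z, ∃ m, (1 : X'.presheaf.stalk x') ⊗ₜ[X.presheaf.stalk (jX x')] m = z from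
      (this z).imp fun m hm => congrArg e hm
    intro z
    induction z with
    | zero => exact ⟨0, tmul_zero _ _⟩
    | add a b ha hb =>
      obtain ⟨m, rfl⟩ := ha
      obtain ⟨n, rfl⟩ := hb
      exact ⟨m + n, tmul_add _ _ _⟩
    | tmul a m =>
      obtain ⟨r, rfl⟩ := hX a
      refine ⟨r • m, ?_⟩
      rw [tmul_smul, smul_tmul', Algebra.smul_def, mul_one]
      rfl
  · intro m
    show e (1 ⊗ₜ m) = 0 ↔ _
    rw [e.map_eq_zero_iff]
    exact one_tmul_eq_zero_iff J hX hXker m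
  · intro r m
    show e ((1 : X'.presheaf.stalk x') ⊗ₜ[X.presheaf.stalk (jX x')] ((f.stalkMap (jX x')).hom r • m)) =
      (f'.stalkMap x').hom (σ.hom r) • e (1 ⊗ₜ m)
    rw [← e.map_smul, tmul_smul, smul_tmul', smul_tmul', Algebra.smul_def, mul_one, smul_eq_mul, mul_one]
    exact congrArg (fun a => e (a ⊗ₜ m)) (congr($(congrArg CommRingCat.Hom.hom hw) r)).symm

/-- Local rings of a fibre, given as any pullback. -/
theorem fibre_stalk {Ys : Scheme.{u}} {ι : Ys ⟶ Y} (h : Y ⟶ S) {s : S}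
    {p : Ys ⟶ Spec (S.residueField s)} (hP : IsPullback ι p h (S.fromSpecResidueField s))
    (z : Ys) (y : Y) (hzy : ι z = y) :
    Function.Surjective (Y.presheaf.stalkSpecializes (specializes_of_eq hzy) ≫ ι.stalkMap z).hom ∧
      RingHom.ker (Y.presheaf.stalkSpecializes (specializes_of_eq hzy) ≫ ι.stalkMap z).hom =
        Ideal.map (h.stalkMap y).hom (maximalIdeal (S.presheaf.stalk (h y))) := by
  obtain rfl : h y = s := by
    rw [← hzy, ← Scheme.Hom.comp_apply, hP.w, Scheme.Hom.comp_apply, Scheme.fromSpecResidueField_apply]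
  obtain ⟨e, he⟩ : ∃ e : Ys ≅ h.fiber (h y), e.hom ≫ h.fiberι (h y) = ι :=
    ⟨hP.isoPullback, hP.isoPullback_hom_fst⟩
  subst he
  have key : Y.presheaf.stalkSpecializes (specializes_of_eq hzy) ≫ (e.hom ≫ h.fiberι (h y)).stalkMap z =
      H8Props.FibreStalk.toFibre h y (h y) (e.hom z) hzy ≫ e.hom.stalkMap z := by
    rw [Scheme.Hom.stalkMap_comp]
    rfl
  rw [key, CommRingCat.hom_comp]
  have hb := ConcreteCategory.bijective_of_isIso (e.hom.stalkMap z)
  refine ⟨hb.2.comp (H8Props.FibreStalk.toFibre_surjective h y _ _ hzy), ?_⟩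
  rw [RingHom.ker_comp_of_injective _ hb.1]
  exact H8Props.FibreStalk.ker_toFibre h y _ hzy

/-- The two formulations of fibrewise flatness at a point agree. -/
theorem isFlatOverAt_fibre_iff {Xs Ys : Scheme.{u}} {ιX : Xs ⟶ X} {ιY : Ys ⟶ Y} {fs : Xs ⟶ Ys}
    {f : X ⟶ Y} {h : Y ⟶ S} {s : S} {pY : Ys ⟶ Spec (S.residueField s)}
    (hY : IsPullback ιY pY h (S.fromSpecResidueField s)) (hX : IsPullback ιX fs f ιY)
    (F : X.Modules) (x' : Xs) :
    FlatMod.IsFlatOverAt fs ((Scheme.Modules.pullback ιX).obj F) x' ↔ FibFlatAt f h F (ιX x') := by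
  have hY' := fibre_stalk h hY (fs x') (f (ιX x')) (sq_apply hX.w x')
  have hX' := fibre_stalk (f ≫ h) (hX.paste_vert hY) x' (ιX x') rfl
  refine isFlatOverAt_pullback_iff_quotFlat hX.w F x' _ hY'.1 hY'.2 ?_ ?_
  · simpa using hX'.1
  · simp only [TopCat.Presheaf.stalkSpecializes_refl, Category.id_comp] at hX'
    rw [hX'.2, Ideal.map_map, Scheme.Hom.stalkMap_comp]
    rfl

end Groth.Agent.H06EGA9
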