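import Groth.Agent.H06EGA9.FibreSmooth
import Groth.Agent.H8Props.FibreCriterion
import Groth.Prelude.Def_ega3

/-!
# Fibrewise criteria at a point (EGA IV 11.3.10, 17.8.2)
-/

set_option autoImplicit false
set_option linter.style.haveILetI false
universe u

open CategoryTheory CategoryTheory.Limits AlgebraicGeometry TopologicalSpace Topology Set

namespace Groth.Agent.H06EGA9

variable {X Y S : Scheme.{u}}

/-- The fibrewise criterion of flatness at a single point. -/
theorem flat_stalkMap_of_fibFlatAt (f : X ⟶ Y) (h : Y ⟶ S) [LocallyOfFinitePresentation h]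
    [LocallyOfFinitePresentation (f ≫ h)] (x : X) (hflat : ((f ≫ h).stalkMap x).hom.Flat)
    (hfib : FibFlatAt f h (Coh.structureModule X) x) : (f.stalkMap x).hom.Flat := by
  let U : X.Opens := ⟨_, H8Props.FlatLocus.isOpen_setOf_flat_stalkMap (f ≫ h)⟩
  let xu : U.toScheme := ⟨x, hflat⟩
  haveI : Flat ((U.ι ≫ f) ≫ h) := by
    rw [Flat.iff_flat_stalkMap]
    intro z
    rw [Scheme.Hom.stalkMap_congr_hom _ _ (Category.assoc U.ι f h)]
    have h1 := ((S4656.result U.ι (f ≫ h) z (Flat.stalkMap _ _))).mpr z.2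
    exact (RingHom.Flat.respectsIso.cancel_left_isIso _ _).mpr h1
  haveI : LocallyOfFinitePresentation ((U.ι ≫ f) ≫ h) := by rw [Category.assoc]; infer_instance
  have hX := H8Props.FibreCriterion.isPullback_fiberMap (U.ι ≫ f) h (h ((U.ι ≫ f) xu))
  obtain ⟨z, hz⟩ : xu ∈ range (((U.ι ≫ f) ≫ h).fiberι (h ((U.ι ≫ f) xu))) := by
    rw [Scheme.Hom.range_fiberι]
    exact Scheme.Hom.comp_apply (U.ι ≫ f) h xu
  have h2 : FibFlatAt (U.ι ≫ f) h (Coh.structureModule U.toScheme) xu := by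
    rw [← fibFlatAt_congr_iso (U.ι ≫ f) h (H16Derived.KFlat.Stalk.structurePullbackIso U.ι) xu]
    exact (fibFlatAt_local_iff (f := f) (h := h) (f' := U.ι ≫ f) (h' := h) (jX := U.ι) (jY := 𝟙 Y)
      (jS := 𝟙 S) (Category.comp_id _).symm (by rw [Category.id_comp, Category.comp_id])
      (Coh.structureModule X) xu).2 hfib
  have hflatfib : ((MoreMor.fiberMap (U.ι ≫ f) h (h ((U.ι ≫ f) xu))).stalkMap z).hom.Flat := by
    refine (flat_stalkMap_fibre_iff (IsPullback.of_hasPullback h _) hX z).2 ?_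
    exact hz.symm ▸ h2
  have h3 := (H8Props.FibreCriterion.flat_stalkMap_of_fiberMap (U.ι ≫ f) h _ z hflatfib).1
  rw [hz] at h3
  exact (S4656.result U.ι f xu (Flat.stalkMap _ _)).mp h3

/-- Smoothness at a point is detected on the fibre, given flatness over the base. -/
theorem mem_smoothLocus_iff_fibSmoothSet (f : X ⟶ Y) (h : Y ⟶ S) [LocallyOfFinitePresentation h]
    [LocallyOfFinitePresentation (f ≫ h)] [LocallyOfFinitePresentation f] (x : X)
    (hflat : ((f ≫ h).stalkMap x).hom.Flat) :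
    x ∈ f.smoothLocus ↔ x ∈ fibSmoothSet f h := by
  constructor
  · intro hx
    have hfl := H17.LocusBC.flat_stalkMap_of_mem_smoothLocus f hx
    exact ⟨fibFlatAt_of_isFlatOverAt f h _ x ((isFlatOverAt_structureModule_iff f x).2 hfl),
      (mem_smFib_iff_mem_smoothLocus_of_flat f hfl).2 hx⟩
  · rintro ⟨hfl, hsm⟩
    exact (mem_smFib_iff_mem_smoothLocus_of_flat f (flat_stalkMap_of_fibFlatAt f h x hflat hfl)).1 hsm

theorem isPullback_fiberMapOver (f : X ⟶ Y) (g : Y ⟶ S) (s : S) :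
    IsPullback ((f ≫ g).fiberι s) (CohIII.fiberMapOver f (f ≫ g) g rfl s) f (g.fiberι s) := by
  have e : CohIII.fiberMapOver f (f ≫ g) g rfl s = fibMap f g s := by
    unfold CohIII.fiberMapOver fibMap
    refine pullback.hom_ext ?_ ?_ <;> simp only [pullback.lift_fst, pullback.lift_snd, Category.comp_id]
  rw [e]
  exact isPullback_fibMap f g s

theorem exists_formallyUnramified_iff (f : X ⟶ Y) [LocallyOfFiniteType f] (x : X) :
    (∃ U : X.Opens, x ∈ U ∧ FormallyUnramified (U.ι ≫ f)) ↔ x ∈ unramSet f :=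
  ⟨fun ⟨U, hx, _⟩ => H17.LocusBC.formallyUnramified_stalkMap_of_nhd f U hx,
    exists_nhd_of_mem_unramSet f⟩

theorem exists_etale_iff (f : X ⟶ Y) [LocallyOfFinitePresentation f] (x : X) :
    (∃ U : X.Opens, x ∈ U ∧ Etale (U.ι ≫ f)) ↔ x ∈ f.smoothLocus ∧ x ∈ unramSet f := by
  constructor
  · rintro ⟨U, hx, _⟩
    exact ⟨(H17.LocusBC.mem_smoothLocus_iff_exists f x).2 ⟨U, hx, inferInstance⟩,
      H17.LocusBC.formallyUnramified_stalkMap_of_nhd f U hx⟩
  · rintro ⟨hs, hu⟩
    obtain ⟨U, hxU, hU⟩ := (H17.LocusBC.mem_smoothLocus_iff_exists f x).1 hs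
    obtain ⟨V, hxV, hV⟩ := exists_nhd_of_mem_unramSet f hu
    refine ⟨U ⊓ V, ⟨hxU, hxV⟩, ?_⟩
    haveI : Smooth ((U ⊓ V).ι ≫ f) := by
      rw [← X.homOfLE_ι (inf_le_left : U ⊓ V ≤ U), Category.assoc]; infer_instance
    haveI : FormallyUnramified ((U ⊓ V).ι ≫ f) := by
      rw [← X.homOfLE_ι (inf_le_right : U ⊓ V ≤ V), Category.assoc]
      exact MorphismProperty.comp_mem @FormallyUnramified _ _ inferInstance hV
    exact Etale.of_formallyUnramified_of_flat _

end Groth.Agent.H06EGA9
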