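import Groth.Agent.H06EGA9.SmoothFibreLocus
import Groth.Agent.H06EGA9.StructureStalk
import Groth.Agent.H06EGA9.UnramifiedLocus
import Groth.Agent.H18Et.TopInvariance

/-!
# Smooth, étale, open immersion, isomorphism on a fibre (EGA IV 9.6.1, 17.7.11)
-/

set_option autoImplicit false
set_option linter.style.haveILetI false
universe u

open CategoryTheory CategoryTheory.Limits AlgebraicGeometry TopologicalSpace Topology Set

namespace Groth.Agent.H06EGA9

/-- Points at which the map of fibres is smooth. -/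
def fibSmoothSet {X Y S : Scheme.{u}} (f : X ⟶ Y) (h : Y ⟶ S) : Set X :=
  {x | FibFlatAt f h (Coh.structureModule X) x} ∩ smFib f

variable {X Y S Xs Ys : Scheme.{u}} {f : X ⟶ Y} {h : Y ⟶ S} {ιX : Xs ⟶ X} {ιY : Ys ⟶ Y}
  {fs : Xs ⟶ Ys} {s : S} {pY : Ys ⟶ Spec (S.residueField s)}

theorem flat_stalkMap_fibre_iff (hY : IsPullback ιY pY h (S.fromSpecResidueField s))
    (hX : IsPullback ιX fs f ιY) (x' : Xs) :
    (fs.stalkMap x').hom.Flat ↔ FibFlatAt f h (Coh.structureModule X) (ιX x') :=
  (isFlatOverAt_pullback_structure_iff fs ιX x').symm.trans (isFlatOverAt_fibre_iff hY hX _ x')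

theorem mem_smoothLocus_fibre_iff (hY : IsPullback ιY pY h (S.fromSpecResidueField s))
    (hX : IsPullback ιX fs f ιY) [LocallyOfFinitePresentation f] [LocallyOfFinitePresentation fs] (x' : Xs) :
    x' ∈ fs.smoothLocus ↔ ιX x' ∈ fibSmoothSet f h := by
  have h1 := flat_stalkMap_fibre_iff hY hX x'
  constructor
  · intro hx
    have hfl := H17.LocusBC.flat_stalkMap_of_mem_smoothLocus fs hx
    exact ⟨h1.1 hfl, (smFib_baseChange_iff f hX x').1
      ((mem_smFib_iff_mem_smoothLocus_of_flat fs hfl).2 hx)⟩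
  · rintro ⟨hfl, hsm⟩
    exact (mem_smFib_iff_mem_smoothLocus_of_flat fs (h1.2 hfl)).1 ((smFib_baseChange_iff f hX x').2 hsm)

theorem range_fibre (hY : IsPullback ιY pY h (S.fromSpecResidueField s))
    (hX : IsPullback ιX fs f ιY) : range ιX = (f ≫ h) ⁻¹' {s} := by
  ext x
  constructor
  · rintro ⟨x', rfl⟩
    show (f ≫ h) (ιX x') = s
    rw [← Scheme.Hom.comp_apply, (hX.paste_vert hY).w, Scheme.Hom.comp_apply,
      Scheme.fromSpecResidueField_apply]
  · intro hx
    obtain ⟨x', hx', -⟩ := Scheme.exists_preimage_of_isPullback (hX.paste_vert hY) x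
      (IsLocalRing.closedPoint _) (hx.trans (Scheme.fromSpecResidueField_apply s _).symm)
    exact ⟨x', hx'⟩

theorem smooth_fibre_iff (hY : IsPullback ιY pY h (S.fromSpecResidueField s))
    (hX : IsPullback ιX fs f ιY) [LocallyOfFinitePresentation f] :
    Smooth fs ↔ (f ≫ h) ⁻¹' {s} ⊆ fibSmoothSet f h := by
  haveI : LocallyOfFinitePresentation fs := MorphismProperty.of_isPullback hX ‹_›
  rw [← fs.smoothLocus_eq_top_iff, ← range_fibre hY hX, Set.range_subset_iff,
    ← forall_congr' (mem_smoothLocus_fibre_iff hY hX)]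
  exact ⟨fun h x' => h ▸ trivial, fun h => Opens.ext (eq_univ_of_forall h)⟩

theorem etale_fibre_iff (hY : IsPullback ιY pY h (S.fromSpecResidueField s))
    (hX : IsPullback ιX fs f ιY) [LocallyOfFinitePresentation f] :
    Etale fs ↔ (f ≫ h) ⁻¹' {s} ⊆ fibSmoothSet f h ∩ unramSet f := by
  haveI : LocallyOfFinitePresentation fs := MorphismProperty.of_isPullback hX ‹_›
  have hu : FormallyUnramified fs ↔ (f ≫ h) ⁻¹' {s} ⊆ unramSet f := by
    rw [formallyUnramified_iff_unramSet, eq_univ_iff_forall,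
      forall_congr' (mem_unramSet_baseChange_iff f hX), ← range_fibre hY hX, Set.range_subset_iff]
  rw [Set.subset_inter_iff, ← smooth_fibre_iff hY hX, ← hu]
  exact ⟨fun _ => ⟨inferInstance, inferInstance⟩, fun ⟨_, _⟩ => Etale.of_formallyUnramified_of_flat fs⟩

theorem isOpenImmersion_iff_etale_and_universallyInjective {U V : Scheme.{u}} (φ : U ⟶ V) :
    IsOpenImmersion φ ↔ Etale φ ∧ UniversallyInjective φ :=
  ⟨fun _ => ⟨inferInstance, inferInstance⟩,
    fun ⟨_, _⟩ => H18Et.TopInv.isOpenImmersion_of_etale_of_universallyInjective φ⟩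

theorem isLocallyConstructible_fibSmoothSet (f : X ⟶ Y) (h : Y ⟶ S) [LocallyOfFinitePresentation h]
    [LocallyOfFinitePresentation (f ≫ h)] : IsLocallyConstructible (fibSmoothSet f h) :=
  haveI : LocallyOfFinitePresentation f := H7Lim.locallyOfFinitePresentation_of_comp f h
  (isLocallyConstructible_fibFlatAt f h isFP_structureModule).inter (isLocallyConstructible_smFib f)

end Groth.Agent.H06EGA9
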