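import Mathlib
import Groth.Prelude.Def_MoreMor
import Groth.Agent.H06EGA9.FibreSmooth
import Groth.Agent.H06EGA9.AtPoint
import Groth.Agent.H8Props.CMAt
import Groth.Agent.H8Props.FlatFibreConst
import Groth.Agent.H8Props.FibreDimSemicont
import Groth.Agent.H4Goren.Basic

/-!
# Cohen–Macaulay morphisms and quasi-finite maps to affine space (EGA IV 15.4.2)
-/

set_option autoImplicit false
set_option linter.style.haveILetI false
universe u

open CategoryTheory CategoryTheory.Limits AlgebraicGeometry TopologicalSpace IsLocalRing LocCoh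

namespace Groth.Agent.H06EGA9

open H8Props

theorem isField_stalk_spec_of_isField {K : CommRingCat.{u}} (hK : IsField K) (w : Spec K) :
    IsField ((Spec K).presheaf.stalk w) := by
  haveI hwp : w.asIdeal.IsPrime := w.2
  have h0 : (0 : K) ∉ w.asIdeal.primeCompl := fun h => h (zero_mem _)
  have hb : Function.Bijective (algebraMap K (Localization.AtPrime w.asIdeal)) :=
    IsField.localization_map_bijective h0 hK
  exact MulEquiv.isField hK
    ((Spec.stalkIso K w).commRingCatIsoToRingEquiv.trans (RingEquiv.ofBijective _ hb).symm).toMulEquiv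

theorem maximalIdeal_stalk_spec_residueField {S : Scheme.{u}} {s : S}
    (w : Spec (S.residueField s)) :
    maximalIdeal ((Spec (S.residueField s)).presheaf.stalk w) = ⊥ :=
  IsLocalRing.isField_iff_maximalIdeal_eq.mp
    (isField_stalk_spec_of_isField (Field.toIsField (S.residueField s)) w)

theorem flat_stalkMap_of_toResidueField {X S : Scheme.{u}} {s : S}
    (f : X ⟶ Spec (S.residueField s)) (x : X) : (f.stalkMap x).hom.Flat := by
  have hF := isField_stalk_spec_of_isField (Field.toIsField (S.residueField s)) (f x)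
  letI := hF.toField
  letI := (f.stalkMap x).hom.toAlgebra
  show Module.Flat ((Spec (S.residueField s)).presheaf.stalk (f x)) (X.presheaf.stalk x)
  infer_instance

/-- The local ring of a fibre, given as a pullback, as a quotient. -/
theorem exists_fibre_stalkEquiv {Y S Ys : Scheme.{u}} {ι : Ys ⟶ Y} {h : Y ⟶ S} {s : S}
    {p : Ys ⟶ Spec (S.residueField s)} (hP : IsPullback ι p h (S.fromSpecResidueField s))
    (z : Ys) (y : Y) (hzy : ι z = y) :
    Nonempty ((Y.presheaf.stalk y ⧸ (maximalIdeal (S.presheaf.stalk (h y))).map (h.stalkMap y).hom) ≃+*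
      (Ys.presheaf.stalk z ⧸
        (maximalIdeal ((Spec (S.residueField s)).presheaf.stalk (p z))).map (p.stalkMap z).hom)) := by
  obtain ⟨hsurj, hker⟩ := fibre_stalk h hP z y hzy
  exact ⟨(Ideal.quotEquivOfEq hker.symm).trans
    ((RingHom.quotientKerEquivOfSurjective hsurj).trans
      ((RingEquiv.quotientBot _).symm.trans (Ideal.quotEquivOfEq
        (by rw [maximalIdeal_stalk_spec_residueField, Ideal.map_bot]))))⟩

theorem isCohenMacaulayLocalRing_of_isRegularLocalRing (R : Type u) [CommRing R]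
    [IsRegularLocalRing R] : IsCohenMacaulayLocalRing R :=
  haveI := H4Goren.isGorensteinLocalRing_of_isRegularLocalRing R
  H4Goren.isCohenMacaulayLocalRing R

/-- A quasi-finite map to affine space over `R` is flat at a Cohen–Macaulay point whose fibre
dimension is at least the dimension of the affine space. -/
theorem flat_stalkMap_toAffineSpec {R A : Type u} [CommRing R] [CommRing A] [Algebra R A]
    [Algebra.FinitePresentation R A] {σ : Type u} [Fintype σ] (γ : MvPolynomial σ R →ₐ[R] A)
    (q : Spec (CommRingCat.of A))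
    (hqf : (Spec.map (CommRingCat.ofHom γ.toRingHom)).QuasiFiniteAt q)
    (hdim : (Fintype.card σ : ℕ) ≤
      FlatMor.fibreDimAt (Spec.map (CommRingCat.ofHom (algebraMap R A))) q)
    (hcm : MoreMor.IsCMAt (Spec.map (CommRingCat.ofHom (algebraMap R A))) q) :
    ((Spec.map (CommRingCat.ofHom γ.toRingHom)).stalkMap q).hom.Flat := by
  classical
  let π := Spec.map (CommRingCat.ofHom (algebraMap R (MvPolynomial σ R)))
  let G := Spec.map (CommRingCat.ofHom γ.toRingHom)
  haveI : LocallyOfFinitePresentation π :=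
    (HasRingHomProperty.Spec_iff (P := @LocallyOfFinitePresentation)).mpr
      (RingHom.finitePresentation_algebraMap.mpr inferInstance)
  have hcomp : Spec.map (CommRingCat.ofHom (algebraMap R A)) = G ≫ π := by
    rw [← Spec.map_comp, ← CommRingCat.ofHom_comp, AlgHom.toRingHom_eq_coe, γ.comp_algebraMap]
  haveI : LocallyOfFinitePresentation (Spec.map (CommRingCat.ofHom (algebraMap R A))) :=
    (HasRingHomProperty.Spec_iff (P := @LocallyOfFinitePresentation)).mpr
      (RingHom.finitePresentation_algebraMap.mpr inferInstance)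
  replace hcm := (CMAt.isCMAt_iff _ _).mp hcm
  rw [hcomp] at hdim
  haveI : LocallyOfFinitePresentation (G ≫ π) := hcomp ▸ inferInstance
  revert hcm
  rw [hcomp]
  intro hcm
  haveI : LocallyOfFiniteType G := locallyOfFiniteType_of_comp G π
  let s := π (G q)
  let ιY := π.fiberι s
  let pY : π.fiber s ⟶ Spec ((Spec (CommRingCat.of R)).residueField s) := π.fiberToSpecResidueField s
  have hY : IsPullback ιY pY π ((Spec (CommRingCat.of R)).fromSpecResidueField s) :=
    IsPullback.of_hasPullback _ _
  obtain ⟨x', hx', -⟩ := Scheme.Pullback.exists_preimage_pullback (f := G) (g := ιY) q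
    (π.asFiber (G q)) (π.fiberι_asFiber (G q)).symm
  let ιX := pullback.fst G ιY
  let fs := pullback.snd G ιY
  have hX : IsPullback ιX fs G ιY := IsPullback.of_hasPullback _ _
  haveI : LocallyOfFiniteType pY := MorphismProperty.of_isPullback hY inferInstance
  haveI : LocallyOfFiniteType fs := MorphismProperty.of_isPullback hX inferInstance
  refine flat_stalkMap_of_fibFlatAt G π q hcm.1 ?_
  have hfs : (fs.stalkMap x').hom.Flat := by
    refine H8Props.FieldDim.flat_stalkMap_of_fibreDimAt_ge fs pY x'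
      (flat_stalkMap_of_toResidueField _ _) ?_ ?_ ?_
    · obtain ⟨e⟩ := exists_fibre_stalkEquiv hY (fs x') (G (ιX x')) (sq_apply hX.w x')
      haveI := (H8Props.FieldDim.affineSpace_fibre σ (G (ιX x'))).2
      exact IsRegularLocalRing.of_ringEquiv e
    · have h2 : IsCohenMacaulayLocalRing ((Spec (CommRingCat.of A)).presheaf.stalk (ιX x') ⧸
          (maximalIdeal ((Spec (CommRingCat.of R)).presheaf.stalk ((G ≫ π) (ιX x')))).map
            ((G ≫ π).stalkMap (ιX x')).hom) := hx' ▸ hcm.2
      obtain ⟨e⟩ := exists_fibre_stalkEquiv (hX.paste_vert hY) x' (ιX x') rfl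
      exact CMAt.isCohenMacaulayLocalRing_of_ringEquiv e
    · rw [H8Props.FieldDim.fibreDimAt_baseChange G hX x',
        H8Props.FieldDim.fibreDimAt_baseChange π hY (fs x'),
        H8Props.FieldDim.fibreDimAt_baseChange (G ≫ π) (hX.paste_vert hY) x',
        sq_apply hX.w x', hx', (H8Props.FieldDim.affineSpace_fibre σ (G q)).1]
      refine le_trans ?_ hdim
      exact (add_le_add (H8Props.FieldDim.fibreDimAt_le_zero_of_quasiFiniteAt G hqf) le_rfl).trans
        (zero_add _).le
  exact hx' ▸ (flat_stalkMap_fibre_iff hY hX x').1 hfs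

/-- Affine space is flat, with Cohen–Macaulay fibres, over the base. -/
theorem isCMAt_affineSpace {Y : Scheme.{u}} (σ : Type u) [Fintype σ] (y : 𝔸(σ; Y)) :
    MoreMor.IsCMAt (𝔸(σ; Y) ↘ Y) y := by
  let h := 𝔸(σ; Y) ↘ Y
  obtain ⟨W, (hW : IsAffineOpen W), hyW, -⟩ := Opens.isBasis_iff_nbhd.mp Y.isBasis_affineOpens
    (show h y ∈ (⊤ : Y.Opens) from trivial)
  let R := Γ(Y, W)
  let π := Spec.map (CommRingCat.ofHom (algebraMap R (MvPolynomial σ R)))
  have hpb := AffineSpace.isPullback_map (n := σ) hW.fromSpec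
  haveI : IsOpenImmersion (AffineSpace.map σ hW.fromSpec) :=
    MorphismProperty.of_isPullback hpb.flip inferInstance
  let j : Spec (CommRingCat.of (MvPolynomial σ R)) ⟶ 𝔸(σ; Y) :=
    (AffineSpace.SpecIso σ R).inv ≫ AffineSpace.map σ hW.fromSpec
  have hsq : π ≫ hW.fromSpec = j ≫ h := by
    show π ≫ hW.fromSpec = ((AffineSpace.SpecIso σ R).inv ≫ AffineSpace.map σ hW.fromSpec) ≫ h
    rw [Category.assoc, AffineSpace.map_over, AffineSpace.SpecIso_inv_over_assoc]
    rfl
  obtain ⟨a, ha⟩ : h y ∈ Set.range hW.fromSpec := by rw [hW.range_fromSpec]; exact hyW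
  obtain ⟨z, hz, -⟩ := Scheme.exists_preimage_of_isPullback hpb y a ha.symm
  obtain ⟨w, rfl⟩ : ∃ w, j w = y := ⟨(AffineSpace.SpecIso σ R).hom z, by
    rw [← Scheme.Hom.comp_apply, ← hz]; simp [j]⟩
  haveI : Flat π := (HasRingHomProperty.Spec_iff (P := @Flat)).mpr
    (RingHom.flat_algebraMap_iff.mpr inferInstance)
  constructor
  · haveI : Flat (j ≫ h) := hsq ▸ inferInstance
    have := Flat.stalkMap (j ≫ h) w
    rw [Scheme.Hom.stalkMap_comp] at this
    exact (RingHom.Flat.respectsIso.cancel_right_isIso _ (j.stalkMap w)).mp this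
  · refine (H8Props.FieldDim.fibre_CM_chart h π j hW.fromSpec hsq w).mp ?_
    haveI := (H8Props.FieldDim.affineSpace_fibre σ w).2
    exact CMAt.isCohenMacaulayLocalRing_of_ringEquiv
      (FibreStalk.asFiberStalkEquiv π w) (h := isCohenMacaulayLocalRing_of_isRegularLocalRing _)

/-- A point with a locally quasi-finite map, flat at the point, to affine space over the base is
Cohen–Macaulay. -/
theorem isCMAt_comp_of_quasiFiniteAt {X Y S : Scheme.{u}} (g : X ⟶ Y) (h : Y ⟶ S)
    [LocallyOfFiniteType g] [LocallyOfFiniteType h] (x : X) (hg : (g.stalkMap x).hom.Flat)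
    (hq : g.QuasiFiniteAt x) (hh : MoreMor.IsCMAt h (g x)) : MoreMor.IsCMAt (g ≫ h) x := by
  rw [CMAt.isCMAt_iff] at hh ⊢
  have hflat : ((g ≫ h).stalkMap x).hom.Flat := by
    rw [Scheme.Hom.stalkMap_comp]
    exact RingHom.Flat.comp hh.1 hg
  refine ⟨hflat, ?_⟩
  have hpt : IsCohenMacaulayLocalRing ((g.fiber (g x)).presheaf.stalk (g.asFiber x)) := by
    refine H8Props.FieldDim.fibre_CM_of_maximal g x fun ζ hζ => ?_
    exact hζ.mem_open (Scheme.Hom.quasiFiniteAt_iff_isOpen_singleton_asFiber.mp hq) rfl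
  haveI := H8Props.FieldDim.locallyOfFiniteType_fiberToSpec h (h (g x))
  haveI := H8Props.FieldDim.locallyOfFiniteType_fiberToSpec (g ≫ h) ((g ≫ h) x)
  have hC := CMAt.isNoetherianRing_fibre (g ≫ h) x
    (LocallyOfFiniteType.isLocallyNoetherian ((g ≫ h).fiberToSpecResidueField ((g ≫ h) x)))
  have hB := CMAt.isNoetherianRing_fibre h (g x)
    (LocallyOfFiniteType.isLocallyNoetherian (h.fiberToSpecResidueField (h (g x))))
  suffices key : ∀ φ : S.presheaf.stalk (h (g x)) →+* X.presheaf.stalk x,
      φ = (g.stalkMap x).hom.comp (h.stalkMap (g x)).hom →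
      IsNoetherianRing (X.presheaf.stalk x ⧸ (maximalIdeal (S.presheaf.stalk (h (g x)))).map φ) →
      IsCohenMacaulayLocalRing (X.presheaf.stalk x ⧸ (maximalIdeal (S.presheaf.stalk (h (g x)))).map φ) from
    key _ (congrArg CommRingCat.Hom.hom (Scheme.Hom.stalkMap_comp g h x)) hC
  rintro _ rfl hC'
  exact (CMAt.fibre_CM_iff (h.stalkMap (g x)).hom (g.stalkMap x).hom hg hB hC').mpr
    ⟨hh.2, CMAt.isCohenMacaulayLocalRing_of_ringEquiv (FibreStalk.asFiberStalkEquiv g x).symm
      (h := hpt)⟩

end Groth.Agent.H06EGA9
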