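import Groth.Agent.H06EGA9.FibreClosure
import Groth.Agent.H7Lim.FPDescent.Noetherian
import Groth.Agent.H22Alg.ProdClosure

/-!
# The fibrewise closure of a locally constructible set over an arbitrary base
-/

set_option autoImplicit false
set_option linter.style.haveILetI false
set_option backward.isDefEq.respectTransparency false
universe u

open CategoryTheory Limits AlgebraicGeometry Topology Set TopologicalSpace Opposite

namespace Groth.Agent.H06EGA9

open Groth.Agent.H8Props.FieldDim Groth.Agent.H7Lim Groth.Agent.H7Lim.FPDescent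

/-- The fibrewise closure commutes with base change. -/
theorem fibClosure_baseChange {X Y X' Y' : Scheme.{u}} {f : X ⟶ Y} {g : Y' ⟶ Y} {f' : X' ⟶ Y'} {g' : X' ⟶ X}
    (hc : IsPullback g' f' f g) (Z : Set X) :
    fibClosure f' (g' ⁻¹' Z) = g' ⁻¹' fibClosure f Z := by
  ext x
  have hw : ∀ z, f (g' z) = g (f' z) := fun z => by
    rw [← Scheme.Hom.comp_apply, hc.w, Scheme.Hom.comp_apply]
  constructor
  · exact fun hx => map_mem_closure g'.continuous hx
      fun a ha => ⟨ha.1, by rw [mem_preimage, mem_singleton_iff, hw, hw, show f' a = f' x from ha.2]⟩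
  · intro hx
    set s := f' x
    let p : f'.fiber s ⟶ f.fiber (g s) := pullback.map _ _ _ _ g' (Spec.map (g.residueFieldMap s)) g hc.w.symm
      (Scheme.Hom.SpecMap_residueFieldMap_fromSpecResidueField g s).symm
    have hP : IsPullback p (f'.fiberToSpecResidueField s) (f.fiberToSpecResidueField (g s))
        (Spec.map (g.residueFieldMap s)) := isPullback_fiberToSpecResidueField_of_isPullback hc s
    have hpc : p ≫ f.fiberι (g s) = f'.fiberι s ≫ g' := pullback.lift_fst _ _ _
    have hp : ∀ v, f.fiberι (g s) (p v) = g' (f'.fiberι s v) := fun v =>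
      ((Scheme.Hom.comp_apply p (f.fiberι (g s)) v).symm.trans (by rw [hpc])).trans
        (Scheme.Hom.comp_apply (f'.fiberι s) g' v)
    haveI : Subsingleton ↥(Spec (Y.residueField (g s))) :=
      inferInstanceAs (Subsingleton (PrimeSpectrum (Y.residueField (g s))))
    have hsub := H22Alg.preimage_closure_inter_subset _ _ p (f'.fiberToSpecResidueField s) hP
      (f.fiberι (g s) ⁻¹' Z) univ
    have h1 : p (f'.asFiber x) ∈ closure (f.fiberι (g s) ⁻¹' Z) := by
      rw [(f.fiberι (g s)).isEmbedding.closure_eq_preimage_closure_image, Set.image_preimage_eq_inter_range,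
        f.range_fiberι, mem_preimage, hp, f'.fiberι_asFiber]
      have h2 := hx
      rwa [mem_preimage, mem_fibClosure, hw] at h2
    have h3 := map_mem_closure (f'.fiberι s).continuous (hsub ⟨h1, trivial⟩) (mapsTo_image _ _)
    rw [f'.fiberι_asFiber] at h3
    refine closure_mono ?_ h3
    rintro _ ⟨v, ⟨hv, -⟩, rfl⟩
    refine ⟨?_, (f'.range_fiberι s).le (mem_range_self v)⟩
    rw [mem_preimage, ← hp]
    exact hv

theorem fibClosure_preimage_opens {X S : Scheme.{u}} (f : X ⟶ S) (Z : Set X) {T : Scheme.{u}} (ι : T ⟶ S) :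
    fibClosure (pullback.snd f ι) (pullback.fst f ι ⁻¹' Z) = pullback.fst f ι ⁻¹' fibClosure f Z :=
  fibClosure_baseChange (IsPullback.of_hasPullback f ι) Z

/-- The affine case. -/
theorem isConstructible_fibClosure_affine {R : Type u} [CommRing R] {X : Scheme.{u}}
    (f : X ⟶ Spec (CommRingCat.of R)) [LocallyOfFinitePresentation f] [QuasiCompact f] [QuasiSeparated f]
    {Z : Set X} (hZ : IsConstructible Z) : IsConstructible (fibClosure f Z) := by
  let c : Cone ((subringFunctor R).op ⋙ Scheme.Spec) := Scheme.Spec.mapCone (subringCocone R).op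
  have hc : IsLimit c := isLimitOfPreserves Scheme.Spec (subringIsColimit R).op
  haveI : ∀ (i j : (Finset R)ᵒᵖ) (φ : i ⟶ j), IsAffineHom (((subringFunctor R).op ⋙ Scheme.Spec).map φ) := fun i j φ =>
    inferInstanceAs (IsAffineHom (Spec.map _))
  haveI : ∀ i, CompactSpace (((subringFunctor R).op ⋙ Scheme.Spec).obj i) := fun i =>
    inferInstanceAs (CompactSpace ↥(Spec _))
  haveI : ∀ i, QuasiSeparatedSpace (((subringFunctor R).op ⋙ Scheme.Spec).obj i) := fun i =>
    inferInstanceAs (QuasiSeparatedSpace ↥(Spec _))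
  haveI : Nonempty (Finset R) := ⟨∅⟩
  obtain ⟨i, ⟨M⟩⟩ := exists_model hc (X := X) f
  haveI := M.compactSpace
  haveI := M.quasiSeparatedSpace
  let e := M.hpb.isoPullback
  obtain ⟨k, -, Z₀, hZ₀, hZeq⟩ := exists_isConstructible_preimage (isLimitPbCone _ i M.p hc)
    (Over.mk (𝟙 i)) (e.inv.isConstructible_preimage hZ)
  let N := M.shift k.hom
  haveI : IsNoetherianRing (Algebra.adjoin ℤ ((unop k.left : Finset R) : Set R)) :=
    haveI := (Algebra.adjoin ℤ ((unop k.left : Finset R) : Set R)).fg_iff_finiteType.1 ⟨unop k.left, rfl⟩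
    Algebra.FiniteType.isNoetherianRing ℤ _
  haveI : IsNoetherian (((subringFunctor R).op ⋙ Scheme.Spec).obj k.left) :=
    inferInstanceAs (IsNoetherian (Spec (CommRingCat.of (Algebra.adjoin ℤ ((unop k.left : Finset R) : Set R)))))
  haveI : LocallyOfFiniteType N.p := inferInstance
  have hg : N.g = e.hom ≫ (pbCone _ c i M.p).π.app k := by
    apply pullback.hom_ext
    · show pullback.lift _ _ _ ≫ _ = _
      simp [e, pbCone]
    · show pullback.lift _ _ _ ≫ _ = _
      simp [e, pbCone]
  have hZN : N.g ⁻¹' Z₀ = Z := by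
    rw [hg]
    show e.hom ⁻¹' ((pbCone _ c i M.p).π.app k ⁻¹' Z₀) = Z
    rw [hZeq, ← preimage_comp]
    ext x
    show (e.hom ≫ e.inv) x ∈ Z ↔ x ∈ Z
    rw [e.hom_inv_id]
    rfl
  rw [← hZN, fibClosure_baseChange N.hpb]
  exact N.g.isConstructible_preimage (isConstructible_fibClosure_noetherian N.p hZ₀)

/-- The fibrewise closure of a locally constructible set is locally constructible. -/
theorem isLocallyConstructible_fibClosure {X S : Scheme.{u}} (f : X ⟶ S) [LocallyOfFinitePresentation f]
    [QuasiCompact f] [QuasiSeparated f] {Z : Set X} (hZ : IsLocallyConstructible Z) :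
    IsLocallyConstructible (fibClosure f Z) := by
  intro x
  obtain ⟨R, ι, hι, ⟨s, hs⟩, -⟩ :=
    Scheme.exists_affine_mem_range_and_range_subset (X := S) (U := ⊤) (x := f x) trivial
  haveI := hι
  let p := pullback.fst f ι
  haveI : CompactSpace ↥(pullback f ι) := QuasiCompact.compactSpace_of_compactSpace (pullback.snd f ι)
  haveI : QuasiSeparatedSpace ↥(pullback f ι) := quasiSeparatedSpace_of_quasiSeparated (pullback.snd f ι)
  have h := isConstructible_fibClosure_affine (R := R) (pullback.snd f ι)
    (Z := p ⁻¹' Z) (isLocallyConstructible_preimage hZ p).isConstructible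
  have hrange : x ∈ range p := by
    rw [Scheme.Pullback.range_fst]
    exact ⟨s, hs⟩
  refine ⟨range p, p.isOpenEmbedding.isOpen_range.mem_nhds hrange, p.isOpenEmbedding.isOpen_range, ?_⟩
  let θ := p.isEmbedding.toHomeomorph
  have h2 : Subtype.val ⁻¹' fibClosure f Z = θ.symm ⁻¹' (p ⁻¹' fibClosure f Z) := by
    ext y
    show y.1 ∈ fibClosure f Z ↔ p (θ.symm y) ∈ fibClosure f Z
    rw [show p (θ.symm y) = y.1 from congrArg Subtype.val (θ.apply_symm_apply y)]
  rw [h2]
  exact (fibClosure_baseChange (IsPullback.of_hasPullback f ι) Z ▸ h).preimage_of_isOpenEmbedding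
    θ.symm.isOpenEmbedding

end Groth.Agent.H06EGA9
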