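import Groth.Agent.H06EGA9.PointLocus
import Groth.Agent.H17.LocusBC
import Groth.Agent.H7Flat.GenericFlatness

/-!
# The locus of points smooth in their fibre is locally constructible (EGA IV 9.9.4 (iii))
-/

set_option autoImplicit false
set_option linter.style.haveILetI false
universe u

open CategoryTheory CategoryTheory.Limits AlgebraicGeometry TopologicalSpace Topology Set

namespace Groth.Agent.H06EGA9

/-- The points at which the fibre is smooth. -/
def smFib ⦃X S : Scheme.{u}⦄ (f : X ⟶ S) : Set X :=
  {x | ((f.fiberToSpecResidueField (f x)).stalkMap (f.asFiber x)).hom.FormallySmooth}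

variable {X S : Scheme.{u}} (f : X ⟶ S)

theorem mem_smFib_iff {x : X} {s : S} (z : f.fiber s) (hz : f.fiberι s z = x) :
    x ∈ smFib f ↔ ((f.fiberToSpecResidueField s).stalkMap z).hom.FormallySmooth := by
  obtain rfl : f x = s := by
    rw [← hz]
    exact ((f.range_fiberι s).subset (mem_range_self z))
  obtain rfl : z = f.asFiber x :=
    (f.fiberι (f x)).isEmbedding.injective (hz.trans (f.fiberι_asFiber x).symm)
  rfl

theorem smFib_baseChange_iff {X' S' : Scheme.{u}} {g' : X' ⟶ X} {f' : X' ⟶ S'} {g : S' ⟶ S}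
    (h : IsPullback g' f' f g) [LocallyOfFinitePresentation f] (x' : X') :
    x' ∈ smFib f' ↔ g' x' ∈ smFib f := by
  haveI : LocallyOfFinitePresentation f' := MorphismProperty.of_isPullback h ‹_›
  have hs := isPullback_fiberToSpecResidueField_of_isPullback h (f' x')
  set q := pullback.map f' (S'.fromSpecResidueField (f' x')) f (S.fromSpecResidueField (g (f' x'))) g'
    (Spec.map (g.residueFieldMap (f' x'))) g h.w.symm (by simp)
  haveI i2 : LocallyOfFinitePresentation (f'.fiberToSpecResidueField (f' x')) :=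
    MorphismProperty.of_isPullback (P := @LocallyOfFinitePresentation) (IsPullback.of_hasPullback f' (S'.fromSpecResidueField (f' x'))) ‹_›
  haveI i1 : LocallyOfFinitePresentation (f.fiberToSpecResidueField (g (f' x'))) :=
    MorphismProperty.of_isPullback (P := @LocallyOfFinitePresentation) (IsPullback.of_hasPullback f (S.fromSpecResidueField (g (f' x')))) ‹_›
  haveI i3 : Flat (Spec.map (g.residueFieldMap (f' x'))) := (HasRingHomProperty.Spec_iff (P := @Flat)).mpr (by
    letI := (g.residueFieldMap (f' x')).hom.toAlgebra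
    show Module.Flat (S.residueField (g (f' x'))) (S'.residueField (f' x'))
    infer_instance)
  have hz : f.fiberι (g (f' x')) (q (f'.asFiber x')) = g' x' := by
    show (q ≫ pullback.fst f _) (f'.asFiber x') = _
    rw [pullback.lift_fst]
    exact congrArg g' (f'.fiberι_asFiber x')
  rw [mem_smFib_iff f _ hz]
  exact ⟨fun hx => @H17.LocusBC.mem_smoothLocus_of_flat_baseChange _ _ _ _ _ _ _ _ hs i1 i2 i3 (f'.asFiber x') hx,
    fun hx => @H17.LocusBC.preimage_smoothLocus_le _ _ _ _ _ _ _ _ hs i1 i2 _ hx⟩

theorem smFib_comp_openImmersion_iff {U : Scheme.{u}} (a : U ⟶ X) [IsOpenImmersion a] (z : U) :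
    z ∈ smFib (a ≫ f) ↔ a z ∈ smFib f := by
  set s := (a ≫ f) z
  let q : (a ≫ f).fiber s ⟶ f.fiber s := pullback.lift ((a ≫ f).fiberι s ≫ a)
    ((a ≫ f).fiberToSpecResidueField s) ((Category.assoc _ _ _).trans pullback.condition)
  have hq : IsPullback ((a ≫ f).fiberι s) q a (f.fiberι s) := isPullback_fibMap a f s
  haveI : IsOpenImmersion q := MorphismProperty.of_isPullback hq ‹IsOpenImmersion a›
  have hz : f.fiberι s (q ((a ≫ f).asFiber z)) = a z := by
    have hw : q ≫ f.fiberι s = (a ≫ f).fiberι s ≫ a := pullback.lift_fst _ _ _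
    show (q ≫ f.fiberι s) ((a ≫ f).asFiber z) = _
    rw [hw]
    exact congrArg a ((a ≫ f).fiberι_asFiber z)
  rw [mem_smFib_iff f _ hz]
  exact H17.LocusBC.formallySmooth_stalkMap_comp_iff q (f.fiberToSpecResidueField s) (𝟙 _)
    ((a ≫ f).fiberToSpecResidueField s) ((Category.comp_id _).trans (pullback.lift_snd _ _ _).symm) _

theorem mem_smFib_iff_mem_smoothLocus_of_flat [LocallyOfFinitePresentation f] {x : X}
    (hflat : (f.stalkMap x).hom.Flat) : x ∈ smFib f ↔ x ∈ f.smoothLocus := by
  haveI : LocallyOfFinitePresentation (f.fiberToSpecResidueField (f x)) :=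
    MorphismProperty.of_isPullback (P := @LocallyOfFinitePresentation) (IsPullback.of_hasPullback f (S.fromSpecResidueField (f x))) ‹_›
  refine ⟨fun hx => H17.LocusBC.mem_smoothLocus_of_flat_of_fiber f x hflat hx, fun hx => ?_⟩
  exact H17.LocusBC.preimage_smoothLocus_le (IsPullback.of_hasPullback f (S.fromSpecResidueField (f x)))
    (show f.fiberι (f x) (f.asFiber x) ∈ f.smoothLocus by rw [f.fiberι_asFiber]; exact hx)

theorem isLocallyConstructible_smFib [LocallyOfFinitePresentation f] :
    IsLocallyConstructible (smFib f) := by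
  refine isLocallyConstructible_pointLocus (@smFib.{u})
    (fun {X S X' S' g' f' f g} h _ x' => smFib_baseChange_iff f h x')
    (fun {U X S} a _ f _ z => smFib_comp_openImmersion_iff f a z) (fun {X T} f _ _ _ _ => ?_) f
  obtain ⟨U, hU, hflat, -⟩ := H7Flat.exists_dense_flatLFP f
  refine ⟨U, (genericPoint_spec T).mem_open_set_iff U.2 |>.2 ⟨hU.nonempty.some, trivial, hU.nonempty.some_mem⟩, ?_⟩
  have : smFib f ∩ f ⁻¹' U = (f.smoothLocus : Set X) ∩ f ⁻¹' U := by
    ext x
    refine and_congr_left fun hx => mem_smFib_iff_mem_smoothLocus_of_flat f ?_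
    have h1 := Flat.stalkMap (f ∣_ U) ⟨x, hx⟩
    have := RingHom.toMorphismProperty_respectsIso_iff.mp RingHom.Flat.respectsIso
    exact ((RingHom.toMorphismProperty RingHom.Flat).arrow_mk_iso_iff
      (morphismRestrictStalkMap f U ⟨x, hx⟩)).mp h1
  rw [this]
  exact f.smoothLocus.2.inter (U.2.preimage f.continuous)

end Groth.Agent.H06EGA9
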