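import Groth.Agent.H06EGA9.FibreMap
import Groth.Agent.H28Top.Noeth
import Groth.Agent.H8Props.FieldDimFibre
import Groth.Agent.H17.Image
import Groth.Agent.H17.Reduced
import Groth.Agent.S4781

/-!
# The closure of a constructible set inside the fibres (EGA IV 9.5.3)
-/

set_option autoImplicit false
set_option linter.style.haveILetI false
set_option backward.isDefEq.respectTransparency false
universe u

open CategoryTheory Limits AlgebraicGeometry Topology Set TopologicalSpace

namespace Groth.Agent.H06EGA9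

open Groth.Agent.H8Props.FieldDim

variable {X S : Scheme.{u}} (f : X ⟶ S)

/-- The points lying in the closure of the trace of `Z` on their fibre. -/
def fibClosure (Z : Set X) : Set X := {x | x ∈ closure (Z ∩ f ⁻¹' {f x})}

theorem mem_fibClosure {Z : Set X} {x : X} : x ∈ fibClosure f Z ↔ x ∈ closure (Z ∩ f ⁻¹' {f x}) := Iff.rfl

/-- The dimension of the closure of a point in its fibre. -/
noncomputable def fdim (x : X) : WithBot ℕ∞ :=
  topologicalKrullDim ↥(closure {x} ∩ f ⁻¹' {f x})

theorem fdim_eq_cdim (x : X) : fdim f x = cdim (f.asFiber x) := by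
  have hj := (f.fiberι (f x)).isEmbedding
  rw [cdim, hj.closure_eq_preimage_closure_image, Set.image_singleton, f.fiberι_asFiber, dim_preimage hj,
    f.range_fiberι]
  rfl

theorem fdim_lt [LocallyOfFiniteType f] {x y : X} (h : x ⤳ y) (hf : f y = f x) (hne : x ≠ y) :
    fdim f y < fdim f x := by
  obtain ⟨v, rfl⟩ : ∃ v, f.fiberι (f x) v = y := (f.range_fiberι (f x)).ge hf
  haveI := locallyOfFiniteType_fiberToSpec f (f x)
  have h1 : f.asFiber x ⤳ v := by
    rw [← (f.fiberι (f x)).isEmbedding.toIsInducing.specializes_iff, f.fiberι_asFiber]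
    exact h
  have h2 : f.asFiber x ≠ v := fun e => hne (by rw [← e, f.fiberι_asFiber])
  have h3 : fdim f (f.fiberι (f x) v) = cdim v := by
    have hj := (f.fiberι (f x)).isEmbedding
    rw [cdim, hj.closure_eq_preimage_closure_image, Set.image_singleton, dim_preimage hj, f.range_fiberι, fdim, hf]
  rw [h3, fdim_eq_cdim]
  exact cdim_lt (f.fiberToSpecResidueField (f x)) h1 h2

/-- A maximal generization inside a closed set and a fibre. -/
theorem exists_maximal (W : Set X) (hW : IsClosed W) (x : X) (hx : x ∈ W) :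
    ∃ x', x' ∈ W ∧ f x' = f x ∧ x' ⤳ x ∧ ∀ z ∈ W, f z = f x' → z ⤳ x' → z = x' := by
  let j := f.fiberι (f x)
  haveI : QuasiSober ↥(j ⁻¹' W) := (hW.preimage j.continuous).isClosedEmbedding_subtypeVal.quasiSober
  let x₀ : ↥(j ⁻¹' W) := ⟨f.asFiber x, by rw [Set.mem_preimage, f.fiberι_asFiber]; exact hx⟩
  have hC := irreducibleComponent_mem_irreducibleComponents x₀
  have hcl := isClosed_irreducibleComponent (x := x₀)
  let v := hC.1.genericPoint
  have hv : closure {v} = irreducibleComponent x₀ := hC.1.closure_genericPoint hcl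
  have hjv : f (j v.1) = f x := (f.range_fiberι (f x)).le (mem_range_self _)
  refine ⟨j v.1, v.2, hjv, ?_, fun z hz hzf hzv => ?_⟩
  · have h1 : v ⤳ x₀ := specializes_iff_mem_closure.mpr (hv.symm ▸ mem_irreducibleComponent)
    have h2 := (h1.map continuous_subtype_val).map j.continuous
    rwa [show j x₀.1 = x from f.fiberι_asFiber x] at h2
  · obtain ⟨w, rfl⟩ : ∃ w, j w = z := (f.range_fiberι (f x)).ge (hzf.trans hjv)
    let w₀ : ↥(j ⁻¹' W) := ⟨w, hz⟩
    have hwv : w₀ ⤳ v := (subtype_specializes_iff _ _).mpr (j.isEmbedding.toIsInducing.specializes_iff.mp hzv)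
    have hsub : irreducibleComponent x₀ ⊆ closure {w₀} := by
      rw [← hv]
      exact closure_minimal (singleton_subset_iff.mpr hwv.mem_closure) isClosed_closure
    have heq : closure {w₀} = irreducibleComponent x₀ := hC.eq_of_ge isIrreducible_singleton.closure hsub
    have h3 : v ⤳ w₀ := specializes_iff_mem_closure.mpr (hv ▸ heq ▸ subset_closure (mem_singleton w₀))
    exact congrArg (fun t : ↥(j ⁻¹' W) => j t.1) (hwv.antisymm h3).eq

/-- Generic equidimensionality of the fibres of an irreducible closed subset. -/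
theorem exists_open_fdim_eq [IsNoetherian S] [LocallyOfFiniteType f] [QuasiCompact f]
    (w : X) :
    ∃ U : Set S, IsOpen U ∧ f w ∈ U ∧ ∀ x, w ⤳ x → f x ∈ U →
      (∀ z, w ⤳ z → f z = f x → z ⤳ x → z = x) → fdim f x = fdim f w := by
  let IX := Scheme.IdealSheafData.vanishingIdeal (X := X) ⟨closure {w}, isClosed_closure⟩
  let IS := Scheme.IdealSheafData.vanishingIdeal (X := S) ⟨closure {f w}, isClosed_closure⟩
  let j := IX.subschemeι
  let i := IS.subschemeι
  have hj : range j = closure {w} := by
    rw [Scheme.IdealSheafData.range_subschemeι, Scheme.IdealSheafData.coe_support_vanishingIdeal]; rfl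
  have hi : range i = closure {f w} := by
    rw [Scheme.IdealSheafData.range_subschemeι, Scheme.IdealSheafData.coe_support_vanishingIdeal]; rfl
  haveI : IrreducibleSpace IX.subscheme := by
    haveI : IrreducibleSpace (range j) := Subtype.irreducibleSpace (hj.symm ▸ isIrreducible_singleton.closure)
    exact j.isEmbedding.toHomeomorph.irreducibleSpace_iff.mpr ‹_›
  haveI : IrreducibleSpace IS.subscheme := by
    haveI : IrreducibleSpace (range i) := Subtype.irreducibleSpace (hi.symm ▸ isIrreducible_singleton.closure)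
    exact i.isEmbedding.toHomeomorph.irreducibleSpace_iff.mpr ‹_›
  haveI : IsNoetherian IS.subscheme := H17.ConsProp.isNoetherian_of_finiteType i
  haveI := H17.isReduced_vanishingIdeal_subscheme ⟨closure {w}, isClosed_closure⟩
  obtain ⟨g, hg⟩ := H17.exists_lift_of_range_subset (j ≫ f) i (by
    rw [hi]
    rintro _ ⟨z, rfl⟩
    rw [Scheme.Hom.comp_apply]
    exact map_mem_closure f.continuous (hj.le (mem_range_self z)) (fun a (ha : a = w) => ha ▸ rfl))
  have hgi : ∀ z, f (j z) = i (g z) := fun z => by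
    rw [← Scheme.Hom.comp_apply, ← hg, Scheme.Hom.comp_apply]
  obtain ⟨w', hw'⟩ : w ∈ range j := hj.ge (subset_closure rfl)
  have hgen : IsGenericPoint (g w') (univ : Set IS.subscheme) := by
    refine eq_univ_of_forall fun t => ?_
    rw [i.isEmbedding.closure_eq_preimage_closure_image, mem_preimage, image_singleton, ← hgi, hw', ← hi]
    exact mem_range_self t
  haveI : IsDominant g := ⟨fun t => closure_mono (singleton_subset_iff.mpr (mem_range_self w'))
    (hgen.symm ▸ mem_univ t)⟩
  haveI : LocallyOfFiniteType (g ≫ i) := hg ▸ inferInstance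
  haveI : LocallyOfFiniteType g := locallyOfFiniteType_of_comp g i
  haveI : QuasiCompact (g ≫ i) := hg ▸ inferInstance
  haveI : QuasiCompact g := QuasiCompact.of_comp g i
  obtain ⟨U', hU', hdim⟩ := S4781.result g
  obtain ⟨U, hU, hUU'⟩ := i.isEmbedding.toIsInducing.isOpen_iff.mp U'.isOpen
  have hgw : g w' = genericPoint IS.subscheme := hgen.eq (genericPoint_spec _)
  have hfw : f w = i (genericPoint IS.subscheme) := by rw [← hw', hgi, hgw]
  refine ⟨U, hU, ?_, fun x hwx hxU hmax => ?_⟩
  · rw [hfw]
    exact hUU'.ge hU'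
  obtain ⟨x', rfl⟩ : x ∈ range j := hj.ge hwx.mem_closure
  have hE : ∀ t : IS.subscheme, IsEmbedding (fun v : ↥(g ⁻¹' {t}) => j v.1) := fun t =>
    j.isEmbedding.comp IsEmbedding.subtypeVal
  have hrange : ∀ t : IS.subscheme,
      range (fun v : ↥(g ⁻¹' {t}) => j v.1) = closure {w} ∩ f ⁻¹' {i t} := fun t => by
    ext y
    constructor
    · rintro ⟨v, rfl⟩
      exact ⟨hj.le (mem_range_self _), by rw [mem_preimage, mem_singleton_iff, hgi, show g v.1 = t from v.2]⟩
    · rintro ⟨hy, hy'⟩
      obtain ⟨v, rfl⟩ := hj.ge hy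
      exact ⟨⟨v, i.isEmbedding.injective ((hgi v).symm.trans hy')⟩, rfl⟩
  let v₀ : ↥(g ⁻¹' {g x'}) := ⟨x', rfl⟩
  have hcomp : closure {v₀} ∈ irreducibleComponents ↥(g ⁻¹' {g x'}) := by
    refine ⟨isIrreducible_singleton.closure, fun T hT hle v hv => ?_⟩
    obtain ⟨v₁, hv₁⟩ : ∃ v₁, IsGenericPoint v₁ (closure T) := by
      haveI : QuasiSober ↥(g ⁻¹' {g x'}) := (g.fiberHomeo (g x')).symm.isClosedEmbedding.quasiSober
      exact QuasiSober.sober hT.closure isClosed_closure
    have h1 : v₁ ⤳ v₀ := hv₁.specializes (subset_closure (hle (subset_closure rfl)))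
    have h2 : (fun v : ↥(g ⁻¹' {g x'}) => j v.1) v₁ = j x' := by
      refine hmax _ (specializes_iff_mem_closure.mpr (hj.le (mem_range_self _))) ?_ ?_
      · show f (j v₁.1) = f (j x')
        rw [hgi, hgi, show g v₁.1 = g x' from v₁.2]
      · exact (h1.map continuous_subtype_val).map j.continuous
    have h3 : v₁ = v₀ := (hE _).injective h2
    exact h3 ▸ specializes_iff_mem_closure.mp (hv₁.specializes (subset_closure hv))
  have key := hdim (g x') (by rwa [← SetLike.mem_coe, ← hUU', mem_preimage, ← hgi]) _ hcomp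
  have hl : topologicalKrullDim ↥(closure {v₀}) = fdim f (j x') := by
    have hs : closure {w} ∩ f ⁻¹' {i (g x')} ∩ closure {j x'} = closure {j x'} ∩ f ⁻¹' {f (j x')} := by
      rw [← hgi, inter_right_comm, inter_eq_right.mpr
        (closure_minimal (singleton_subset_iff.mpr hwx.mem_closure) isClosed_closure)]
    rw [(hE (g x')).closure_eq_preimage_closure_image, image_singleton, dim_preimage (hE _), hrange,
      inter_comm, hs]
    rfl
  have hr : topologicalKrullDim ↥(g ⁻¹' {genericPoint IS.subscheme}) = fdim f w := by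
    rw [fdim, hfw, ← dim_range (hE _), hrange]
  rw [← hl, key, hr]

/-- Over an open dense in `T`, the closure in the fibres agrees with the closure of the generic trace. -/
theorem exists_open_fibClosure [IsNoetherian S] [LocallyOfFiniteType f] [QuasiCompact f]
    {Z : Set X} (hZ : IsConstructible Z) {η : S} :
    ∃ U : Set S, IsOpen U ∧ η ∈ U ∧ ∀ x, η ⤳ f x → f x ∈ U →
      (x ∈ fibClosure f Z ↔ x ∈ closure (Z ∩ f ⁻¹' {η})) := by
  haveI : IsNoetherian X := H17.ConsProp.isNoetherian_of_finiteType f
  haveI : LocallyOfFinitePresentation f := H12AlgSp.lfp_of_lft_of_isLocallyNoetherian f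
  set W := closure (Z ∩ f ⁻¹' {η})
  have hWT : ∀ x ∈ W, η ⤳ f x := fun x hx =>
    specializes_iff_mem_closure.mpr (map_mem_closure f.continuous hx fun a ha => ha.2)
  -- avoiding a constructible set not containing the generic point
  have avoid : ∀ E : Set S, IsConstructible E → η ∉ E →
      ∃ U : Set S, IsOpen U ∧ η ∈ U ∧ ∀ t, η ⤳ t → t ∈ U → t ∉ E := fun E hE hη => by
    obtain ⟨U, hU, ⟨t, htU, ht⟩, hUE⟩ := H28Top.IsConstructible.exists_isOpen_inter_subset hE.compl
      (Y := closure {η}) isIrreducible_singleton.closure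
      (closure_mono (singleton_subset_iff.mpr ⟨hη, subset_closure rfl⟩))
    exact ⟨U, hU, (specializes_iff_mem_closure.mpr ht).mem_open hU htU,
      fun t ht htU => hUE ⟨htU, ht.mem_closure⟩⟩
  have hZW : IsConstructible (Z \ W) :=
    hZ.sdiff (H28Top.isConstructible_of_isClosed isClosed_closure)
  obtain ⟨U₁, hU₁, hη₁, havoid⟩ := avoid (f '' (Z \ W)) (f.isLocallyConstructible_image hZW.isLocallyConstructible).isConstructible
    (by rintro ⟨z, ⟨hz, hzW⟩, hfz⟩; exact hzW (subset_closure ⟨hz, hfz⟩))
  have hcomp : ∀ C ∈ irreducibleComponents ↥W, ∃ U : Set S, IsOpen U ∧ η ∈ U ∧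
      ∀ x, x ∈ Subtype.val '' C → f x ∈ U → x ∈ fibClosure f Z := by
    intro C hC
    haveI : QuasiSober ↥W := isClosed_closure.isClosedEmbedding_subtypeVal.quasiSober
    let w₀ := hC.1.genericPoint
    have hw₀ : closure {w₀} = C := hC.1.closure_genericPoint (isClosed_of_mem_irreducibleComponents C hC)
    let w : X := w₀.1
    have hCw : Subtype.val '' C = closure {w} := by
      rw [← hw₀, ← isClosed_closure.isClosedEmbedding_subtypeVal.closure_image_eq, image_singleton]
    obtain ⟨V₀, hV₀c, hV₀i, hwV₀, hV₀⟩ := H28Top.exists_irreducible_of_mem_closure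
      (show w ∈ closure (Z ∩ f ⁻¹' {η}) from w₀.2)
    have hV₀W : V₀ ⊆ W := hV₀.trans (closure_mono inter_subset_left)
    have hV₀C : V₀ = closure {w} := by
      haveI : QuasiSober X := inferInstance
      let v := hV₀i.genericPoint
      have hv : closure {v} = V₀ := hV₀i.closure_genericPoint hV₀c
      have hvV : v ∈ V₀ := hv ▸ subset_closure rfl
      let v₀ : ↥W := ⟨v, hV₀W hvV⟩
      have hvw : v₀ ⤳ w₀ := (subtype_specializes_iff _ _).mpr
        (specializes_iff_mem_closure.mpr (hv.symm ▸ hwV₀))
      have hsub : C ⊆ closure {v₀} := by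
        rw [← hw₀]
        exact closure_minimal (singleton_subset_iff.mpr hvw.mem_closure) isClosed_closure
      have heq : closure {v₀} = C := hC.eq_of_ge isIrreducible_singleton.closure hsub
      have hwv : w₀ ⤳ v₀ := specializes_iff_mem_closure.mpr (hw₀.symm ▸ heq ▸ subset_closure (mem_singleton v₀))
      rw [← hv, show v = w from congrArg Subtype.val (hvw.antisymm hwv).eq]
    rw [hV₀C] at hV₀
    have hfw : f w = η := by
      obtain ⟨z, ⟨-, hzη⟩, hz⟩ : ((Z ∩ f ⁻¹' {η}) ∩ closure {w}).Nonempty := by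
        by_contra h
        rw [not_nonempty_iff_eq_empty.mp h, closure_empty] at hV₀
        exact (hV₀ (subset_closure rfl) : w ∈ (∅ : Set X))
      exact (((specializes_iff_mem_closure.mpr hz).map f.continuous).trans (specializes_of_eq hzη)).antisymm
        (hWT w w₀.2) |>.eq
    obtain ⟨V, hV, ⟨y, hyV, hy⟩, hVZ⟩ := H28Top.IsConstructible.exists_isOpen_inter_subset hZ
      (Y := closure {w}) isIrreducible_singleton.closure
      (hV₀.trans (closure_mono fun a ha => ⟨ha.1.1, ha.2⟩))
    have hwV : w ∈ V := (specializes_iff_mem_closure.mpr hy).mem_open hV hyV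
    obtain ⟨U₂, hU₂, hη₂, hdim₂⟩ := exists_open_fdim_eq f w
    let D := closure {w} \ V
    have hD : IsClosed D := isClosed_closure.sdiff hV
    haveI : QuasiSober ↥D := hD.isClosedEmbedding_subtypeVal.quasiSober
    let gen : irreducibleComponents ↥D → X := fun A => A.2.1.genericPoint.1
    have hgenD : ∀ A, gen A ∈ D := fun A => A.2.1.genericPoint.2
    have hA : ∀ A : irreducibleComponents ↥D, ∃ U : Set S, IsOpen U ∧ η ∈ U ∧ ∀ x, gen A ⤳ x → f x ∈ U →
        η ⤳ f x → (∀ z, gen A ⤳ z → f z = f x → z ⤳ x → z = x) → fdim f x < fdim f w := by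
      intro A
      by_cases hAη : f (gen A) = η
      · obtain ⟨U, hU, hηU, hd⟩ := exists_open_fdim_eq f (gen A)
        refine ⟨U, hU, hAη ▸ hηU, fun x hx hxU _ hmax => ?_⟩
        rw [hd x hx hxU hmax]
        exact fdim_lt f (specializes_iff_mem_closure.mpr (hgenD A).1) (hAη.trans hfw.symm)
          fun e => (hgenD A).2 (e ▸ hwV)
      · refine ⟨(closure {f (gen A)})ᶜ, isClosed_closure.isOpen_compl, fun h => hAη ?_,
          fun x hx hxU _ _ => absurd (hx.map f.continuous).mem_closure hxU⟩
        exact ((specializes_iff_mem_closure.mpr h).antisymm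
          (hWT _ (closure_minimal (singleton_subset_iff.mpr w₀.2) isClosed_closure (hgenD A).1))).eq
    choose UA hUA hηA hltA using hA
    haveI : Finite (irreducibleComponents ↥D) := NoetherianSpace.finite_irreducibleComponents
    refine ⟨U₂ ∩ ⋂ A, UA A, hU₂.inter (isOpen_iInter_of_finite hUA),
      ⟨hfw ▸ hη₂, mem_iInter.mpr hηA⟩, fun x hx hxU => ?_⟩
    rw [hCw] at hx
    obtain ⟨x', hx'W, hfx', hx'x, hmax⟩ := exists_maximal f _ isClosed_closure x hx
    have hwx' : w ⤳ x' := specializes_iff_mem_closure.mpr hx'W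
    have hx'V : x' ∈ V := by
      by_contra hn
      let A : irreducibleComponents ↥D :=
        ⟨_, irreducibleComponent_mem_irreducibleComponents (⟨x', hx'W, hn⟩ : ↥D)⟩
      have hA' : gen A ⤳ x' :=
        ((A.2.1.isGenericPoint_genericPoint isClosed_irreducibleComponent).specializes
          mem_irreducibleComponent).map continuous_subtype_val
      have h1 := hdim₂ x' hwx' (hfx' ▸ hxU.1) fun z hz => hmax z hz.mem_closure
      have h2 := hltA A x' hA' (hfx' ▸ mem_iInter.mp hxU.2 A) (hfw ▸ hwx'.map f.continuous)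
        fun z hz => hmax z (closure_minimal (singleton_subset_iff.mpr (hgenD A).1) isClosed_closure hz.mem_closure)
      exact h2.ne h1
    exact closure_mono (singleton_subset_iff.mpr (show x' ∈ Z ∩ f ⁻¹' {f x} from ⟨hVZ ⟨hx'V, hx'W⟩, hfx'⟩))
      hx'x.mem_closure
  choose UC hUC hηC hmemC using hcomp
  haveI : Finite (irreducibleComponents ↥W) := NoetherianSpace.finite_irreducibleComponents
  refine ⟨U₁ ∩ ⋂ C : irreducibleComponents ↥W, UC C.1 C.2, hU₁.inter (isOpen_iInter_of_finite fun C => hUC C.1 C.2),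
    ⟨hη₁, mem_iInter.mpr fun C => hηC C.1 C.2⟩, fun x hxη hxU => ⟨fun hx => ?_, fun hx => ?_⟩⟩
  · refine closure_minimal ?_ isClosed_closure hx
    rintro z ⟨hz, hzx⟩
    by_contra hzW
    exact havoid _ hxη hxU.1 ⟨z, ⟨hz, hzW⟩, hzx⟩
  · exact hmemC _ (irreducibleComponent_mem_irreducibleComponents (⟨x, hx⟩ : ↥W)) x
      ⟨_, mem_irreducibleComponent, rfl⟩
      (mem_iInter.mp hxU.2 ⟨_, irreducibleComponent_mem_irreducibleComponents (⟨x, hx⟩ : ↥W)⟩)

/-- The set of points in the fibrewise closure of a constructible set is constructible. -/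
theorem isConstructible_fibClosure_noetherian [IsNoetherian S] [LocallyOfFiniteType f] [QuasiCompact f]
    {Z : Set X} (hZ : IsConstructible Z) : IsConstructible (fibClosure f Z) := by
  haveI : IsNoetherian X := H17.ConsProp.isNoetherian_of_finiteType f
  suffices IsConstructible (fibClosure f Z ∩ f ⁻¹' univ) by simpa using this
  refine H28Top.noeth_induction_irreducible (fun T : Set S => IsConstructible (fibClosure f Z ∩ f ⁻¹' T))
    (by simpa using IsConstructible.empty) (fun A B _ _ hA hB => by
      simpa [inter_union_distrib_left] using hA.union hB) (fun T hT hirr ih => ?_) isClosed_univ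
  obtain ⟨U, hU, hη, hiff⟩ := exists_open_fibClosure f hZ (η := hirr.genericPoint)
  have hgen := hirr.isGenericPoint_genericPoint hT
  have hlt : T \ U ⊂ T := ⟨sdiff_subset, fun h => (h hgen.mem).2 hη⟩
  have h1 : IsConstructible (closure (Z ∩ f ⁻¹' {hirr.genericPoint}) ∩ f ⁻¹' (U ∩ T)) :=
    (H28Top.isConstructible_of_isClosed isClosed_closure).inter
      (H28Top.isConstructible_of_isLocallyClosed ((hU.isLocallyClosed.inter hT.isLocallyClosed).preimage f.continuous))
  convert h1.union (ih _ (hT.sdiff hU) hlt) using 1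
  ext x
  by_cases hxU : f x ∈ U
  · simp only [mem_inter_iff, mem_union, mem_preimage, Set.mem_sdiff, hxU, not_true, and_false, or_false, true_and]
    exact ⟨fun h => ⟨(hiff x (hgen.specializes h.2) hxU).mp h.1, h.2⟩,
      fun h => ⟨(hiff x (hgen.specializes h.2) hxU).mpr h.1, h.2⟩⟩
  · simp [hxU]

end Groth.Agent.H06EGA9
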