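import Groth.Agent.H06EGA9.FibreClosureGeneral
import Groth.Agent.H8Props.SpreadGeneric
import Groth.Agent.H8Props.FibreCriterion
import Groth.Agent.H7Lim.Proper.Chow
import Groth.Agent.H7Lim.Proper.Descend
import Groth.Agent.H13AlgSp.QcImmersion
import Groth.Agent.S3426
import Groth.Agent.S5880

/-!
# Separatedness, properness and immersions on fibres (EGA IV 9.6.1)
-/

set_option autoImplicit false
set_option linter.style.haveILetI false
set_option backward.isDefEq.respectTransparency false
universe u

open CategoryTheory Limits AlgebraicGeometry Topology Set TopologicalSpace MorphismProperty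

namespace Groth.Agent.H06EGA9

variable {X Y S : Scheme.{u}}

/-- Closedness of a trace on a fibre. -/
theorem isClosed_preimage_iff {T : Scheme.{u}} (g : Y ⟶ S) (s : S) (j : T ⟶ Y) (hj : IsEmbedding j)
    (hr : range j = g ⁻¹' {s}) (E : Set Y) :
    IsClosed (j ⁻¹' E) ↔ g ⁻¹' {s} ⊆ (fibClosure g E)ᶜ ∪ E := by
  rw [← closure_subset_iff_isClosed, hj.closure_eq_preimage_closure_image, image_preimage_eq_inter_range, hr]
  constructor
  · intro h y hy
    by_cases hc : y ∈ fibClosure g E
    · obtain ⟨t, rfl⟩ := hr.ge hy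
      rw [mem_fibClosure, show g (j t) = s from hy] at hc
      exact Or.inr (h hc)
    · exact Or.inl hc
  · intro h t ht
    have hy : g (j t) = s := hr.le (mem_range_self t)
    refine (h hy).resolve_left fun hn => hn ?_
    rw [mem_fibClosure, hy]
    exact ht

/-- Local closedness of a trace on a fibre. -/
theorem isLocallyClosed_preimage_iff {T : Scheme.{u}} (g : Y ⟶ S) (s : S) (j : T ⟶ Y) (hj : IsEmbedding j)
    (hr : range j = g ⁻¹' {s}) (E : Set Y) :
    IsLocallyClosed (j ⁻¹' E) ↔ IsClosed (j ⁻¹' (fibClosure g E \ E)) := by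
  rw [isLocallyClosed_iff_isOpen_coborder, coborder, isOpen_compl_iff]
  refine iff_of_eq (congrArg IsClosed (Set.ext fun t => ?_))
  rw [Set.mem_sdiff, hj.closure_eq_preimage_closure_image, image_preimage_eq_inter_range, hr, mem_preimage,
    mem_preimage, mem_preimage, Set.mem_sdiff, mem_fibClosure, show g (j t) = s from hr.le (mem_range_self t)]

theorem isLocallyConstructible_setOf_closed_fibre (g : Y ⟶ S) [LocallyOfFinitePresentation g] [QuasiCompact g]
    [QuasiSeparated g] {E : Set Y} (hE : IsLocallyConstructible E) :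
    IsLocallyConstructible {s : S | g ⁻¹' {s} ⊆ (fibClosure g E)ᶜ ∪ E} :=
  isLocallyConstructible_setOf_fibre_subset g
    ((H7Lim.isLocallyConstructible_compl (isLocallyConstructible_fibClosure g hE)).union hE)

/-- The square of diagonals along a monomorphism. -/
theorem exists_diagonal_of_mono {X' Y' : Scheme.{u}} {f : X ⟶ Y} {f' : X' ⟶ Y'} {j : Y' ⟶ Y} {jX : X' ⟶ X}
    [IsPreimmersion j] (hc : IsPullback jX f' f j) :
    ∃ m : pullback f' f' ⟶ pullback f f, IsEmbedding m ∧
      range m = (fun z => f (pullback.fst f f z)) ⁻¹' range j ∧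
      range (pullback.diagonal f') = m ⁻¹' range (pullback.diagonal f) := by
  let m : pullback f' f' ⟶ pullback f f :=
    pullback.map f' f' f f jX jX j hc.w.symm hc.w.symm
  have hm1 : m ≫ pullback.fst f f = pullback.fst f' f' ≫ jX := pullback.lift_fst _ _ _
  have hm2 : m ≫ pullback.snd f f = pullback.snd f' f' ≫ jX := pullback.lift_snd _ _ _
  have sq : IsPullback m (pullback.snd f' f') (pullback.snd f f) jX := by
    refine IsPullback.of_right ?_ hm2 (IsPullback.of_hasPullback f f)
    rw [hm1, hc.w]
    exact (IsPullback.of_hasPullback f' f').paste_horiz hc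
  haveI : IsPreimmersion jX := MorphismProperty.of_isPullback hc.flip ‹_›
  haveI : IsPreimmersion m := MorphismProperty.of_isPullback sq.flip ‹_›
  have hd : pullback.diagonal f' ≫ m = jX ≫ pullback.diagonal f := by
    apply pullback.hom_ext
    · rw [Category.assoc, hm1, Category.assoc, pullback.diagonal_fst, pullback.diagonal_fst_assoc, Category.comp_id]
    · rw [Category.assoc, hm2, Category.assoc, pullback.diagonal_snd, pullback.diagonal_snd_assoc, Category.comp_id]
  refine ⟨m, m.isEmbedding, ?_, ?_⟩
  · rw [← H13AlgSp.preimage_range_of_isPullback sq, ← H13AlgSp.preimage_range_of_isPullback hc]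
    ext z
    simp only [mem_preimage]
    rw [← Scheme.Hom.comp_apply (pullback.fst f f) f, pullback.condition, Scheme.Hom.comp_apply]
  · ext z
    constructor
    · rintro ⟨x, rfl⟩
      exact ⟨jX x, by rw [← Scheme.Hom.comp_apply, ← hd, Scheme.Hom.comp_apply]⟩
    · rintro ⟨x, hx⟩
      refine ⟨pullback.snd f' f' z, m.isEmbedding.injective ?_⟩
      have h1 : jX (pullback.snd f' f' z) = x := by
        rw [← Scheme.Hom.comp_apply, ← hm2, Scheme.Hom.comp_apply, ← hx, ← Scheme.Hom.comp_apply,
          pullback.diagonal_snd]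
        rfl
      rw [← Scheme.Hom.comp_apply, hd, Scheme.Hom.comp_apply, h1, hx]

theorem isSeparated_iff_isClosed_range (f : X ⟶ Y) :
    IsSeparated f ↔ IsClosed (range (pullback.diagonal f)) := by
  refine ⟨fun h => ?_, fun h => ⟨IsClosedImmersion.of_isPreimmersion _ h⟩⟩
  haveI := h.isClosedImmersion_diagonal
  exact (pullback.diagonal f).isClosedEmbedding.isClosed_range

variable (f : X ⟶ Y) (g : Y ⟶ S)

theorem isSeparated_fibMap_iff (s : S) :
    IsSeparated (fibMap f g s) ↔
      (pullback.fst f f ≫ f ≫ g) ⁻¹' {s} ⊆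
        (fibClosure (pullback.fst f f ≫ f ≫ g) (range (pullback.diagonal f)))ᶜ ∪ range (pullback.diagonal f) := by
  haveI : IsPreimmersion (pullback.fst g (S.fromSpecResidueField s)) := inferInstanceAs (IsPreimmersion (g.fiberι s))
  obtain ⟨m, hm, hr, hd⟩ := exists_diagonal_of_mono (isPullback_fibMap f g s)
  rw [isSeparated_iff_isClosed_range, hd]
  refine isClosed_preimage_iff _ s m hm ?_ _
  rw [hr, range_fst]
  ext z
  simp only [mem_preimage, mem_singleton_iff, Scheme.Hom.comp_apply]

theorem isLocallyConstructible_setOf_isSeparated [LocallyOfFinitePresentation g] [QuasiCompact g]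
    [QuasiSeparated g] [LocallyOfFinitePresentation (f ≫ g)] [QuasiCompact (f ≫ g)] [QuasiSeparated (f ≫ g)] :
    IsLocallyConstructible {s : S | IsSeparated (fibMap f g s)} := by
  haveI : LocallyOfFinitePresentation f := H7Lim.locallyOfFinitePresentation_of_comp f g
  haveI : QuasiCompact f := QuasiCompact.of_comp f g
  haveI : QuasiSeparated f := QuasiSeparated.of_comp f g
  haveI : LocallyOfFinitePresentation (pullback.diagonal f) := Groth.Agent.S4599.result f
  simp only [isSeparated_fibMap_iff]
  refine isLocallyConstructible_setOf_closed_fibre (pullback.fst f f ≫ f ≫ g) ?_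
  rw [← Set.image_univ]
  exact (pullback.diagonal f).isLocallyConstructible_image .univ

omit f g in
theorem interior_or_of_inter_open [IsIntegral S] [IsNoetherian S] {E E' U : Set S} (hU : IsOpen U)
    (hne : U.Nonempty) (hE' : IsConstructible E') (h : ∀ s ∈ U, s ∈ E ↔ s ∈ E') :
    (interior E).Nonempty ∨ (interior Eᶜ).Nonempty := by
  rcases H17.ConsProp.interior_or_of_isConstructible hE' with ⟨s, hs⟩ | ⟨s, hs⟩
  · obtain ⟨t, ht1, ht2⟩ := nonempty_preirreducible_inter hU isOpen_interior hne ⟨s, hs⟩
    exact .inl ⟨t, interior_maximal (fun x hx => (h x hx.1).mpr (interior_subset hx.2))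
      (hU.inter isOpen_interior) ⟨ht1, ht2⟩⟩
  · obtain ⟨t, ht1, ht2⟩ := nonempty_preirreducible_inter hU isOpen_interior hne ⟨s, hs⟩
    exact .inr ⟨t, interior_maximal (fun x hx hxE => (interior_subset hx.2 : x ∈ E'ᶜ) ((h x hx.1).mp hxE))
      (hU.inter isOpen_interior) ⟨ht1, ht2⟩⟩

/-- Properness of the fibre map when the morphism is separated, through a Chow cover. -/
theorem isProper_fibMap_iff [IsSeparated f] [LocallyOfFiniteType f] [QuasiCompact f] {P X' : Scheme.{u}}
    (π : X' ⟶ X) (jI : X' ⟶ P) (g₀ : P ⟶ Y) [IsProper π] [Surjective π] [IsImmersion jI] [IsProper g₀]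
    (hw : jI ≫ g₀ = π ≫ f) (s : S) :
    IsProper (fibMap f g s) ↔ (g₀ ≫ g) ⁻¹' {s} ⊆ (fibClosure (g₀ ≫ g) (range jI))ᶜ ∪ range jI := by
  let j := pullback.fst g (S.fromSpecResidueField s)
  haveI : IsPreimmersion j := inferInstanceAs (IsPreimmersion (g.fiberι s))
  have hX := isPullback_fibMap f g s
  haveI : IsSeparated (fibMap f g s) := MorphismProperty.of_isPullback hX ‹_›
  haveI : LocallyOfFiniteType (fibMap f g s) := MorphismProperty.of_isPullback hX ‹_›
  have hY := IsPullback.of_hasPullback g₀ j
  let m := pullback.fst g₀ j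
  haveI : IsPreimmersion m := MorphismProperty.of_isPullback hY.flip ‹_›
  haveI : IsProper (pullback.snd g₀ j) := MorphismProperty.pullback_snd _ _ ‹_›
  let jI' := pullback.snd jI m
  haveI : IsImmersion jI' := MorphismProperty.pullback_snd _ _ ‹_›
  let π' := pullback.snd π (pullback.fst (f ≫ g) (S.fromSpecResidueField s))
  haveI : IsProper π' := MorphismProperty.pullback_snd _ _ ‹_›
  haveI : Surjective π' := MorphismProperty.pullback_snd _ _ ‹_›
  have h1 : IsPullback (pullback.fst jI m) (jI' ≫ pullback.snd g₀ j) (π ≫ f) j := by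
    rw [← hw]
    exact (IsPullback.of_hasPullback jI m).paste_vert hY
  have h2 : IsPullback (pullback.fst π (pullback.fst (f ≫ g) (S.fromSpecResidueField s))) (π' ≫ fibMap f g s)
      (π ≫ f) j := (IsPullback.of_hasPullback π _).paste_vert hX
  have heq : IsProper (jI' ≫ pullback.snd g₀ j) ↔ IsProper (π' ≫ fibMap f g s) :=
    (H7Lim.prop_iff_of_isPullback (P := @IsProper) h1).trans (H7Lim.prop_iff_of_isPullback (P := @IsProper) h2).symm
  have hr : range m = (g₀ ≫ g) ⁻¹' {s} := by
    rw [← H13AlgSp.preimage_range_of_isPullback hY, range_fst]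
    ext p
    simp only [mem_preimage, mem_singleton_iff, Scheme.Hom.comp_apply]
  rw [← isClosed_preimage_iff (g₀ ≫ g) s m m.isEmbedding hr,
    H13AlgSp.preimage_range_of_isPullback (IsPullback.of_hasPullback jI m).flip]
  constructor
  · intro h
    haveI : IsProper (jI' ≫ pullback.snd g₀ j) := heq.mpr inferInstance
    haveI : IsProper jI' := IsProper.of_comp jI' (pullback.snd g₀ j)
    exact jI'.isClosedMap.isClosed_range
  · intro h
    haveI : IsClosedImmersion jI' := .of_isPreimmersion _ h
    haveI : IsProper (π' ≫ fibMap f g s) := heq.mp inferInstance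
    haveI : UniversallyClosed (fibMap f g s) := UniversallyClosed.of_comp_surjective π' (fibMap f g s)
    exact ⟨⟩

theorem fiberMap_eq_fibMap (s : S) : MoreMor.fiberMap f g s = fibMap f g s := rfl

omit f g in
/-- Properness is a constructible property of morphisms. -/
theorem isConsMor_isProper : _root_.ConsProp.IsConsMor (fun X Y T f g => IsProper f) := by
  refine ⟨H8Props.SpreadGeneric.isFieldStableMor_of_descendsAlong (P := @IsProper), ?_⟩
  intro X Y S f g _ _ _ _ _ _
  haveI : IsNoetherian Y := H17.ConsProp.isNoetherian_of_finiteType g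
  haveI : IsNoetherian X := H17.ConsProp.isNoetherian_of_finiteType (f ≫ g)
  haveI : LocallyOfFinitePresentation g := H12AlgSp.lfp_of_lft_of_isLocallyNoetherian g
  haveI : LocallyOfFinitePresentation (f ≫ g) := H12AlgSp.lfp_of_lft_of_isLocallyNoetherian _
  haveI : LocallyOfFiniteType f := locallyOfFiniteType_of_comp f g
  haveI : QuasiCompact f := QuasiCompact.of_comp f g
  have hsep := (isLocallyConstructible_setOf_isSeparated f g).isConstructible
  by_cases hη : IsSeparated (fibMap f g (genericPoint S))
  swap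
  · obtain ⟨U, hU, hne, hsub⟩ : ∃ U, IsOpen U ∧ (U ∩ univ).Nonempty ∧ U ∩ univ ⊆ {s : S | IsSeparated (fibMap f g s)}ᶜ :=
      H28Top.IsConstructible.exists_isOpen_inter_subset (Y := univ) hsep.compl (IrreducibleSpace.isIrreducible_univ S)
        (by rw [inter_univ, ← (genericPoint_spec S).def]; exact closure_mono (singleton_subset_iff.mpr hη))
    obtain ⟨t, ht, -⟩ := hne
    have hUc : U ⊆ (_root_.ConsProp.locusMor (fun X Y T f g => IsProper f) f g)ᶜ := fun s hs hp => by
      haveI : IsProper (fibMap f g s) := hp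
      exact hsub ⟨hs, trivial⟩ (inferInstanceAs (IsSeparated (fibMap f g s)))
    exact .inr ⟨t, interior_maximal hUc hU ht⟩
  haveI : IsNoetherian ↑(pullback f f) := H17.ConsProp.isNoetherian_of_finiteType (pullback.fst f f ≫ f ≫ g)
  let h := pullback.fst f f ≫ f ≫ g
  haveI : LocallyOfFinitePresentation h := H12AlgSp.lfp_of_lft_of_isLocallyNoetherian _
  haveI : LocallyOfFiniteType (pullback.diagonal f) := by
    refine locallyOfFiniteType_of_comp _ (pullback.fst f f)
  have hΔ : IsConstructible (range (pullback.diagonal f)) := by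
    haveI : LocallyOfFinitePresentation (pullback.diagonal f) := H12AlgSp.lfp_of_lft_of_isLocallyNoetherian _
    rw [← Set.image_univ]
    exact ((pullback.diagonal f).isLocallyConstructible_image .univ).isConstructible
  let D := closure (range (pullback.diagonal f)) \ range (pullback.diagonal f)
  have hD : IsConstructible D := (H28Top.isConstructible_of_isClosed isClosed_closure).sdiff hΔ
  have hηD : genericPoint S ∉ h '' D := by
    rintro ⟨z, ⟨hz, hzn⟩, hzη⟩
    obtain ⟨W, hWc, hWi, hzW, hW⟩ := H28Top.exists_irreducible_of_mem_closure hz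
    obtain ⟨V, hV, ⟨w, hwV, hwW⟩, hVW⟩ := H28Top.IsConstructible.exists_isOpen_inter_subset hΔ hWi hW
    have hgen := hWi.isGenericPoint_genericPoint hWc
    have hw : hWi.genericPoint ∈ range (pullback.diagonal f) :=
      hVW ⟨(hgen.specializes hwW).mem_open hV hwV, hgen.mem⟩
    have hhw : h hWi.genericPoint = genericPoint S :=
      ((hzη ▸ (hgen.specializes hzW).map h.continuous).antisymm (genericPoint_specializes _)).eq
    refine hzn (((isSeparated_fibMap_iff f g _).mp hη hzη).resolve_left fun hn => hn ?_)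
    rw [mem_fibClosure, show h z = genericPoint S from hzη]
    exact closure_mono (singleton_subset_iff.mpr
      (show hWi.genericPoint ∈ range (pullback.diagonal f) ∩ h ⁻¹' {genericPoint S} from ⟨hw, hhw⟩))
      (hgen.specializes hzW).mem_closure
  obtain ⟨U, hU, ⟨u₀, hu₀, -⟩, hUD⟩ := H28Top.IsConstructible.exists_isOpen_inter_subset (Y := univ)
    (h.isLocallyConstructible_image hD.isLocallyConstructible).isConstructible.compl
    (IrreducibleSpace.isIrreducible_univ S)
    (by rw [inter_univ, ← (genericPoint_spec S).def]; exact closure_mono (singleton_subset_iff.mpr hηD))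
  let Uo : S.Opens := ⟨U, hU⟩
  let jY := pullback.fst g Uo.ι
  let g' := pullback.snd g Uo.ι
  let f' := pullback.snd f jY
  have hY := IsPullback.of_hasPullback g Uo.ι
  have hX := IsPullback.of_hasPullback f jY
  haveI : IsSeparated f' := by
    obtain ⟨m, hm, hr, hd⟩ := exists_diagonal_of_mono hX
    rw [isSeparated_iff_isClosed_range, hd]
    have hmem : ∀ z, h (m z) ∈ U := fun z => by
      have h1 : f (pullback.fst f f (m z)) ∈ range jY := hr.le (mem_range_self z)
      rw [Scheme.Pullback.range_fst, Scheme.Opens.range_ι, mem_preimage] at h1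
      rwa [Scheme.Hom.comp_apply, Scheme.Hom.comp_apply]
    rw [show m ⁻¹' range (pullback.diagonal f) = m ⁻¹' closure (range (pullback.diagonal f)) from
      Subset.antisymm (preimage_mono subset_closure) fun z hz => by_contra fun hn =>
        hUD ⟨hmem z, trivial⟩ ⟨m z, ⟨hz, hn⟩, rfl⟩]
    exact isClosed_closure.preimage m.continuous
  haveI : IsNoetherian Uo.toScheme := H17.ConsProp.isNoetherian_of_finiteType Uo.ι
  haveI : IsNoetherian ↑(pullback g Uo.ι) := H17.ConsProp.isNoetherian_of_finiteType g'
  haveI : LocallyOfFiniteType f' := MorphismProperty.pullback_snd _ _ inferInstance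
  haveI : QuasiCompact f' := MorphismProperty.pullback_snd _ _ inferInstance
  haveI : CompactSpace ↑(pullback g Uo.ι) := inferInstance
  obtain ⟨n, X', π, jI, hjI, hjπ, hπ, hπs⟩ := H7Lim.exists_chow_qcqs f'
  let g₀ := CohB1.ProjSpaceOver.toBase n (pullback g Uo.ι)
  haveI : IsProper g₀ := Groth.Agent.H27Weil.isProper_toBase n _
  haveI : IsNoetherian ↑(CohB1.ProjSpaceOver n (pullback g Uo.ι)) := H17.ConsProp.isNoetherian_of_finiteType g₀
  haveI : LocallyOfFinitePresentation (g₀ ≫ g') := H12AlgSp.lfp_of_lft_of_isLocallyNoetherian _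
  haveI : LocallyOfFiniteType (jI ≫ g₀) := by rw [hjπ]; infer_instance
  haveI : LocallyOfFiniteType jI := locallyOfFiniteType_of_comp jI g₀
  have hjIc : IsConstructible (range jI) := by
    haveI : LocallyOfFinitePresentation jI := H12AlgSp.lfp_of_lft_of_isLocallyNoetherian _
    haveI : QuasiCompact (jI ≫ g₀) := by rw [hjπ]; infer_instance
    haveI : QuasiCompact jI := QuasiCompact.of_comp jI g₀
    rw [← Set.image_univ]
    exact (jI.isLocallyConstructible_image .univ).isConstructible
  have hF := (isLocallyConstructible_setOf_closed_fibre (g₀ ≫ g') hjIc.isLocallyConstructible).isConstructible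
  have hE' : IsConstructible (Uo.ι '' {t | (g₀ ≫ g') ⁻¹' {t} ⊆ (fibClosure (g₀ ≫ g') (range jI))ᶜ ∪ range jI}) := by
    haveI : LocallyOfFinitePresentation Uo.ι := H12AlgSp.lfp_of_lft_of_isLocallyNoetherian _
    exact (Uo.ι.isLocallyConstructible_image hF.isLocallyConstructible).isConstructible
  refine interior_or_of_inter_open hU ⟨u₀, hu₀⟩ hE' fun s hs => ?_
  obtain ⟨t, rfl⟩ : s ∈ range Uo.ι := by rw [Scheme.Opens.range_ι]; exact hs
  rw [Uo.ι.isEmbedding.injective.mem_set_image, mem_setOf_eq, ← isProper_fibMap_iff f' g' π jI g₀ hjπ t]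
  have e := H17.ConsProp.locusMor_baseChange (P := fun X Y T f g => IsProper f)
    (H8Props.SpreadGeneric.isFieldStableMor_of_descendsAlong (P := @IsProper)) hY hX
  exact (Set.ext_iff.1 e t).symm

omit f g in
theorem isLocallyConstructible_setOf_isProper (f : X ⟶ Y) (g : Y ⟶ S) [LocallyOfFinitePresentation g]
    [QuasiCompact g] [QuasiSeparated g] [LocallyOfFinitePresentation (f ≫ g)] [QuasiCompact (f ≫ g)]
    [QuasiSeparated (f ≫ g)] : IsLocallyConstructible {s : S | IsProper (fibMap f g s)} :=
  S5880.result isConsMor_isProper f g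

theorem isLocallyConstructible_setOf_isClosedImmersion [LocallyOfFinitePresentation g] [QuasiCompact g]
    [QuasiSeparated g] [LocallyOfFinitePresentation (f ≫ g)] [QuasiCompact (f ≫ g)] [QuasiSeparated (f ≫ g)] :
    IsLocallyConstructible {s : S | IsClosedImmersion (fibMap f g s)} := by
  simp only [IsClosedImmersion.iff_isProper_and_mono, Set.setOf_and]
  exact (isLocallyConstructible_setOf_isProper f g).inter (S3426.result f g)

omit f g in
/-- Quasi-compact immersions form a constructible property of morphisms. -/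
theorem isConsMor_isImmersion :
    _root_.ConsProp.IsConsMor (fun X Y T f g => (@IsImmersion ⊓ @QuasiCompact : MorphismProperty Scheme.{u}) f) := by
  refine ⟨H8Props.SpreadGeneric.isFieldStableMor_of_descendsAlong, ?_⟩
  intro X Y S f g _ _ _ _ _ _
  haveI : IsNoetherian Y := H17.ConsProp.isNoetherian_of_finiteType g
  haveI : IsNoetherian X := H17.ConsProp.isNoetherian_of_finiteType (f ≫ g)
  haveI : LocallyOfFinitePresentation g := H12AlgSp.lfp_of_lft_of_isLocallyNoetherian g
  haveI : LocallyOfFiniteType f := locallyOfFiniteType_of_comp f g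
  haveI : LocallyOfFinitePresentation f := H12AlgSp.lfp_of_lft_of_isLocallyNoetherian f
  haveI : QuasiCompact f := QuasiCompact.of_comp f g
  have hE : IsConstructible (range f) := by
    rw [← Set.image_univ]
    exact (f.isLocallyConstructible_image .univ).isConstructible
  set D := fibClosure g (range f) \ range f
  have hD : IsConstructible D := (isConstructible_fibClosure_noetherian g hE).sdiff hE
  obtain ⟨U, hU, hηU, hiff⟩ := exists_open_fibClosure g hD (η := genericPoint S)
  let V : Y.Opens := ⟨(closure (D ∩ g ⁻¹' {genericPoint S}))ᶜ, isClosed_closure.isOpen_compl⟩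
  haveI : IsNoetherian V.toScheme := H17.ConsProp.isNoetherian_of_finiteType V.ι
  haveI : IsNoetherian (f ⁻¹ᵁ V).toScheme := H17.ConsProp.isNoetherian_of_finiteType (f ⁻¹ᵁ V).ι
  haveI : LocallyOfFinitePresentation (V.ι ≫ g) := H12AlgSp.lfp_of_lft_of_isLocallyNoetherian _
  haveI : LocallyOfFiniteType (f ∣_ V) := MorphismProperty.of_isPullback (isPullback_morphismRestrict f V).flip ‹_›
  haveI : QuasiCompact (f ∣_ V) := MorphismProperty.of_isPullback (isPullback_morphismRestrict f V).flip ‹_›
  haveI : LocallyOfFinitePresentation ((f ∣_ V) ≫ V.ι ≫ g) := H12AlgSp.lfp_of_lft_of_isLocallyNoetherian _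
  have hlc : IsConstructible {s : S | g ⁻¹' {s} ⊆ (fibClosure g D)ᶜ ∪ D} :=
    (isLocallyConstructible_setOf_closed_fibre g hD.isLocallyConstructible).isConstructible
  have hci := (isLocallyConstructible_setOf_isClosedImmersion (f ∣_ V) (V.ι ≫ g)).isConstructible
  refine interior_or_of_inter_open hU ⟨_, hηU⟩ (hlc.inter hci) fun s hs => ?_
  show (IsImmersion (MoreMor.fiberMap f g s) ∧ QuasiCompact (MoreMor.fiberMap f g s)) ↔ _
  rw [fiberMap_eq_fibMap]
  let j := pullback.fst g (S.fromSpecResidueField s)
  haveI : IsPreimmersion j := inferInstanceAs (IsPreimmersion (g.fiberι s))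
  let j' := pullback.fst (V.ι ≫ g) (S.fromSpecResidueField s)
  let a : pullback (V.ι ≫ g) (S.fromSpecResidueField s) ⟶ pullback g (S.fromSpecResidueField s) :=
    fibMap V.ι g s
  have ha : IsPullback j' a V.ι j := isPullback_fibMap V.ι g s
  haveI : IsOpenImmersion a := MorphismProperty.of_isPullback ha inferInstance
  have hX := isPullback_fibMap f g s
  have hXV := isPullback_fibMap (f ∣_ V) (V.ι ≫ g) s
  have hbig : IsPullback (pullback.fst ((f ∣_ V) ≫ V.ι ≫ g) (S.fromSpecResidueField s) ≫ (f ⁻¹ᵁ V).ι)
      (fibMap (f ∣_ V) (V.ι ≫ g) s) f (j' ≫ V.ι) := hXV.paste_horiz (isPullback_morphismRestrict f V).flip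
  rw [show j' ≫ V.ι = a ≫ j from ha.w] at hbig
  let b := hX.lift (pullback.fst ((f ∣_ V) ≫ V.ι ≫ g) (S.fromSpecResidueField s) ≫ (f ⁻¹ᵁ V).ι)
    (fibMap (f ∣_ V) (V.ι ≫ g) s ≫ a) (by rw [Category.assoc (fibMap _ _ _)]; exact hbig.w)
  have hb : IsPullback b (fibMap (f ∣_ V) (V.ι ≫ g) s) (fibMap f g s) a :=
    IsPullback.of_right (by rw [hX.lift_fst]; exact hbig) (hX.lift_snd _ _ _) hX
  haveI : IsOpenImmersion b := MorphismProperty.of_isPullback hb.flip inferInstance
  have hrange : range (fibMap f g s) = j ⁻¹' range f :=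
    (H13AlgSp.preimage_range_of_isPullback hX.flip).symm
  have hrj : range j = g ⁻¹' {s} := range_fst g s
  have hra : range a = j ⁻¹' (V : Set Y) := by
    rw [← H13AlgSp.preimage_range_of_isPullback ha.flip, Scheme.Opens.range_ι]
  have hC : ∀ y, g y = s → (y ∈ fibClosure g D ↔ y ∉ V) := fun y hy => by
    rw [hiff y (genericPoint_specializes _) (hy ▸ hs)]
    exact not_not.symm
  constructor
  · rintro ⟨him, -⟩
    have h1 : g ⁻¹' {s} ⊆ (fibClosure g D)ᶜ ∪ D := by
      rw [← isClosed_preimage_iff g s j j.isEmbedding hrj, ← isLocallyClosed_preimage_iff g s j j.isEmbedding hrj,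
        ← hrange]
      exact (fibMap f g s).isLocallyClosed_range
    haveI : Surjective b := ⟨fun x => by
      have hxy : g (j (fibMap f g s x)) = s := hrj.le (mem_range_self _)
      obtain ⟨v, hv⟩ : fibMap f g s x ∈ range a := by
        rw [hra, mem_preimage]
        by_contra hn
        exact ((h1 hxy).resolve_left fun h' => h' ((hC _ hxy).mpr hn)).2 (hrange.le (mem_range_self x))
      obtain ⟨z, hz, -⟩ := Scheme.exists_preimage_of_isPullback hb x v hv.symm
      exact ⟨z, hz⟩⟩
    refine ⟨h1, ?_⟩
    haveI : IsPreimmersion (fibMap (f ∣_ V) (V.ι ≫ g) s) := by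
      haveI : IsImmersion (fibMap (f ∣_ V) (V.ι ≫ g) s) := MorphismProperty.of_isPullback hb him
      infer_instance
    refine IsClosedImmersion.of_isPreimmersion _ ?_
    have he : range (fibMap (f ∣_ V) (V.ι ≫ g) s) = a ⁻¹' range (fibMap f g s) :=
      (H13AlgSp.preimage_range_of_isPullback hb.flip).symm
    rw [he, hrange, show a ⁻¹' (j ⁻¹' range f) = a ⁻¹' closure (j ⁻¹' range f) from ?_]
    · exact isClosed_closure.preimage a.continuous
    refine Subset.antisymm (preimage_mono subset_closure) fun v hv => by_contra fun hn => ?_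
    have hvy : g (j (a v)) = s := hrj.le (mem_range_self _)
    have hDv : j (a v) ∈ D := by
      refine ⟨?_, hn⟩
      rw [mem_preimage, j.isEmbedding.closure_eq_preimage_closure_image, image_preimage_eq_inter_range, hrj] at hv
      rw [mem_fibClosure, hvy]
      exact hv
    have hfc : j (a v) ∈ fibClosure g D := by
      rw [mem_fibClosure]
      exact subset_closure ⟨hDv, rfl⟩
    exact (hC _ hvy).mp hfc (hra.le (mem_range_self v))
  · rintro ⟨h1, hci⟩
    haveI : IsClosedImmersion (fibMap (f ∣_ V) (V.ι ≫ g) s) := hci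
    haveI : Surjective b := ⟨fun x => by
      have hxy : g (j (fibMap f g s x)) = s := hrj.le (mem_range_self _)
      obtain ⟨v, hv⟩ : fibMap f g s x ∈ range a := by
        rw [hra, mem_preimage]
        by_contra hn
        exact ((h1 hxy).resolve_left fun h' => h' ((hC _ hxy).mpr hn)).2 (hrange.le (mem_range_self x))
      obtain ⟨z, hz, -⟩ := Scheme.exists_preimage_of_isPullback hb x v hv.symm
      exact ⟨z, hz⟩⟩
    haveI : IsIso b := (isIso_iff_isOpenImmersion_and_epi_base b).mpr
      ⟨inferInstance, (TopCat.epi_iff_surjective _).mpr b.surjective⟩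
    have he : fibMap f g s = inv b ≫ fibMap (f ∣_ V) (V.ι ≫ g) s ≫ a := by
      rw [IsIso.eq_inv_comp]; exact hb.w
    refine ⟨?_, MorphismProperty.of_isPullback hX ‹QuasiCompact f›⟩
    rw [he]
    infer_instance

omit f g in
theorem isLocallyConstructible_setOf_isImmersion (f : X ⟶ Y) (g : Y ⟶ S) [LocallyOfFinitePresentation g]
    [QuasiCompact g] [QuasiSeparated g] [LocallyOfFinitePresentation (f ≫ g)] [QuasiCompact (f ≫ g)]
    [QuasiSeparated (f ≫ g)] : IsLocallyConstructible {s : S | IsImmersion (fibMap f g s)} := by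
  haveI : QuasiCompact f := QuasiCompact.of_comp f g
  have h : {s : S | IsImmersion (fibMap f g s)} =
      _root_.ConsProp.locusMor (fun X Y T f g => (@IsImmersion ⊓ @QuasiCompact : MorphismProperty Scheme.{u}) f) f g :=
    Set.ext fun s => ⟨fun h => ⟨h, MorphismProperty.of_isPullback (isPullback_fibMap f g s) ‹QuasiCompact f›⟩,
      fun h => h.1⟩
  rw [h]
  exact S5880.result isConsMor_isImmersion f g

end Groth.Agent.H06EGA9
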