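import Groth.Agent.H06EGA9.AtPoint
import Groth.Agent.H8Props.Reduced

/-!
# Descent along a base change which is flat at a point (EGA IV 17.7.1)
-/

set_option autoImplicit false
set_option linter.style.haveILetI false
universe u

open CategoryTheory CategoryTheory.Limits AlgebraicGeometry TopologicalSpace Topology Set

namespace Groth.Agent.H06EGA9

variable {X X' Y Y' : Scheme.{u}}

theorem mem_smoothLocus_of_baseChange_flatAt {g' : X' ⟶ X} {f' : X' ⟶ Y'} {f : X ⟶ Y} {g : Y' ⟶ Y}
    (h : IsPullback g' f' f g) [LocallyOfFinitePresentation f] [LocallyOfFinitePresentation f']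
    (x' : X') (hg : (g.stalkMap (f' x')).hom.Flat) (hx : x' ∈ f'.smoothLocus) :
    g' x' ∈ f.smoothLocus := by
  let j := Y'.fromSpecStalk (f' x')
  have sq := IsPullback.of_hasPullback f' j
  haveI : LocallyOfFinitePresentation (pullback.snd f' j) := MorphismProperty.of_isPullback sq ‹_›
  haveI : Flat (j ≫ g) := by
    rw [← Scheme.SpecMap_stalkMap_fromSpecStalk g]
    haveI : Flat (Spec.map (g.stalkMap (f' x'))) := (HasRingHomProperty.Spec_iff (P := @Flat)).mpr hg
    infer_instance
  obtain ⟨z, hz, -⟩ := Scheme.exists_preimage_of_isPullback sq x' (IsLocalRing.closedPoint _)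
    Scheme.fromSpecStalk_closedPoint.symm
  rw [← hz]
  exact H17.LocusBC.mem_smoothLocus_of_flat_baseChange (sq.paste_horiz h) z
    (H17.LocusBC.preimage_smoothLocus_le sq (show pullback.fst f' j z ∈ f'.smoothLocus from hz.symm ▸ hx))

end Groth.Agent.H06EGA9
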