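import Groth.Agent.H06EGA9.FlatConstructible
import Groth.Agent.H06EGA11.Model
import Groth.Agent.H17.OmegaAffine
import Groth.Agent.H8Props.FibreCriterion

/-!
# The fibrewise flat locus is constructible, affine case: descent to a Noetherian base
-/

set_option autoImplicit false
set_option linter.style.haveILetI false
set_option synthInstance.maxHeartbeats 200000
set_option maxHeartbeats 1000000
universe u

open CategoryTheory CategoryTheory.Limits AlgebraicGeometry TopologicalSpace Topology TensorProduct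
open Groth.Agent.H13Flat

namespace Groth.Agent.H06EGA9

theorem isFP_tilde {R : CommRingCat.{u}} (M : ModuleCat.{u} R) [Module.FinitePresentation R M] :
    CohB1.IsFP (tilde M) := by
  refine H29Omega.isFP_of_affineCover (tilde M) (fun _ : PUnit.{u+1} => ⊤)
    (eq_top_iff.2 fun x _ => Opens.mem_iSup.2 ⟨⟨⟩, trivial⟩) (fun _ => isAffineOpen_top _) fun _ => ?_
  exact H29Fitt.finitePresentation_of_semilinear (A := R) (B := Γ(Spec R, ⊤)) (M := M)
    (N := Γ(tilde M, ⊤)) (Scheme.ΓSpecIso R).inv.hom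
    (ConcreteCategory.bijective_of_isIso (Scheme.ΓSpecIso R).inv)
    (tilde.toOpen M ⊤).hom.toAddMonoidHom
    (fun a m => by
      refine ((tilde.toOpen M ⊤).hom.map_smul a m).trans ?_
      rfl)
    (ConcreteCategory.bijective_of_isIso (tilde.toOpen M ⊤))

/-- The pullback of a tilde module along `Spec` of a ring map, given a base change of modules. -/
noncomputable def pullbackTildeOfEquiv {C₀ C : Type u} [CommRing C₀] [CommRing C] (φ : C₀ →+* C)
    (M₀ : Type u) [AddCommGroup M₀] [Module C₀ M₀] (M : Type u) [AddCommGroup M] [Module C M]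
    (e : letI := φ.toAlgebra; C ⊗[C₀] M₀ ≃ₗ[C] M) :
    (Scheme.Modules.pullback (Spec.map (CommRingCat.ofHom φ))).obj
        (tilde (R := CommRingCat.of C₀) (ModuleCat.of C₀ M₀)) ≅
      tilde (R := CommRingCat.of C) (ModuleCat.of C M) :=
  letI := φ.toAlgebra
  (H17.OmegaAffine.pullbackTildeIso (CommRingCat.ofHom φ)).app (ModuleCat.of C₀ M₀) ≪≫
    (tilde.functor (CommRingCat.of C)).mapIso (by exact LinearEquiv.toModuleIso e)

/-- A descended family over a Noetherian base gives a constructible fibrewise flat locus. -/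
theorem isConstructible_of_model {R₀ B₀ C₀ A B C : Type u} [CommRing R₀] [IsNoetherianRing R₀]
    [CommRing B₀] [CommRing C₀] [CommRing A] [CommRing B] [CommRing C]
    [Algebra R₀ B₀] [Algebra R₀ C₀] [Algebra.FiniteType R₀ B₀] [Algebra.FiniteType R₀ C₀]
    [Algebra R₀ A] [Algebra A B] [Algebra A C] [Algebra B C] [IsScalarTower A B C]
    [Algebra R₀ B] [Algebra R₀ C] [Algebra B₀ B] [Algebra C₀ C]
    [IsScalarTower R₀ A B] [IsScalarTower R₀ B₀ B] [IsScalarTower R₀ A C] [IsScalarTower R₀ C₀ C]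
    [Algebra.IsPushout R₀ A B₀ B] [Algebra.IsPushout R₀ A C₀ C]
    (θ : B₀ →ₐ[R₀] C₀)
    (hcompat : (algebraMap C₀ C).comp θ.toRingHom = (algebraMap B C).comp (algebraMap B₀ B))
    {r n : ℕ} (M : Type u) [AddCommGroup M] [Module C M] (π : (Fin r → C) →ₗ[C] M)
    (g : (Fin n → C) →ₗ[C] (Fin r → C)) (hπ : Function.Surjective π) (hπg : Function.Exact g π)
    (c : Fin n → Fin r → C₀) (hc : ∀ i j, algebraMap C₀ C (c i j) = g (Pi.single i 1) j) :
    IsConstructible {q : Spec (.of C) | FibFlatAt (Spec.map (CommRingCat.ofHom (algebraMap B C)))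
      (Spec.map (CommRingCat.ofHom (algebraMap A B))) (tilde (R := CommRingCat.of C) (ModuleCat.of C M)) q} := by
  let v : Fin r → M := fun j => π (Pi.single j 1)
  have hv : ∀ x : Fin r → C, π x = ∑ j, x j • v j := fun x => by
    conv_lhs => rw [pi_eq_sum_univ' x, map_sum]
    simp only [map_smul, v]
  obtain ⟨e⟩ := H06EGA11.exists_linearEquiv_baseChange (P₀ := C₀) (S := C) v c
    (top_unique fun x _ => by
      obtain ⟨a, rfl⟩ := hπ x
      rw [hv]
      exact Submodule.sum_mem _ fun j _ => Submodule.smul_mem _ _ (Submodule.subset_span ⟨j, rfl⟩))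
    (fun i => by
      simp only [hc]
      rw [← hv]
      exact (hπg _).2 ⟨_, rfl⟩)
    (fun a ha => by
      rw [← hv] at ha
      obtain ⟨b, rfl⟩ := (hπg _).1 ha
      refine (Submodule.mem_span_range_iff_exists_fun _).2 ⟨b, funext fun j => ?_⟩
      conv_rhs => rw [pi_eq_sum_univ' b, map_sum]
      simp only [Finset.sum_apply, map_smul, Pi.smul_apply, hc])
  let f := Spec.map (CommRingCat.ofHom (algebraMap B C))
  let h := Spec.map (CommRingCat.ofHom (algebraMap A B))
  let f₀ := Spec.map (CommRingCat.ofHom θ.toRingHom)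
  let h₀ := Spec.map (CommRingCat.ofHom (algebraMap R₀ B₀))
  let a := Spec.map (CommRingCat.ofHom (algebraMap R₀ A))
  let aY := Spec.map (CommRingCat.ofHom (algebraMap B₀ B))
  let aX := Spec.map (CommRingCat.ofHom (algebraMap C₀ C))
  have hY : IsPullback aY h h₀ a := (isPullback_SpecMap_of_isPushout _ _ _ _
    (CommRingCat.isPushout_of_isPushout R₀ A B₀ B)).flip
  have hθ : f₀ ≫ h₀ = Spec.map (CommRingCat.ofHom (algebraMap R₀ C₀)) := by
    rw [← Spec.map_comp]
    exact congrArg Spec.map (CommRingCat.hom_ext θ.comp_algebraMap)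
  have hfh : f ≫ h = Spec.map (CommRingCat.ofHom (algebraMap A C)) := by
    rw [← Spec.map_comp]
    exact congrArg Spec.map (CommRingCat.hom_ext (IsScalarTower.algebraMap_eq A B C).symm)
  have hXS : IsPullback aX (f ≫ h) (f₀ ≫ h₀) a := by
    rw [hθ, hfh]
    exact (isPullback_SpecMap_of_isPushout _ _ _ _
      (CommRingCat.isPushout_of_isPushout R₀ A C₀ C)).flip
  have hsq : aX ≫ f₀ = f ≫ aY := by
    rw [← Spec.map_comp, ← Spec.map_comp]
    exact congrArg Spec.map (CommRingCat.hom_ext hcompat)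
  have hX : IsPullback aX f f₀ aY := IsPullback.of_bot hXS hsq hY
  haveI : IsNoetherianRing (CommRingCat.of R₀) := ‹IsNoetherianRing R₀›
  haveI : LocallyOfFiniteType h₀ := (HasRingHomProperty.Spec_iff (P := @LocallyOfFiniteType)).mpr
    (RingHom.finiteType_algebraMap.mpr inferInstance)
  haveI : LocallyOfFiniteType (f₀ ≫ h₀) := hθ ▸ (HasRingHomProperty.Spec_iff (P := @LocallyOfFiniteType)).mpr
    (RingHom.finiteType_algebraMap.mpr inferInstance)
  let M₀ := (Fin r → C₀) ⧸ Submodule.span C₀ (Set.range c)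
  haveI : IsNoetherianRing C₀ := Algebra.FiniteType.isNoetherianRing R₀ C₀
  haveI : Module.FinitePresentation C₀ M₀ := Module.finitePresentation_of_finite C₀ M₀
  have e' : (letI := (algebraMap C₀ C).toAlgebra; C ⊗[C₀] M₀ ≃ₗ[C] M) := by
    convert e using 0
    congr!
    all_goals exact Algebra.algebra_ext _ _ fun _ => rfl
  have h0 := isConstructible_fibFlatAt f₀ h₀ (isFP_tilde (R := CommRingCat.of C₀) (ModuleCat.of C₀ M₀))
  convert Scheme.Hom.isConstructible_preimage aX h0 using 1
  ext q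
  exact (fibFlatAt_congr_iso f h (pullbackTildeOfEquiv (algebraMap C₀ C) M₀ M e').symm q).trans
    (fibFlatAt_baseChange_iff hY hX _ q)

/-- Affine case of EGA IV 11.2.8. -/
theorem isConstructible_fibFlatAt_Spec {A B C : Type u} [CommRing A] [CommRing B] [CommRing C]
    [Algebra A B] [Algebra B C] [Algebra A C] [IsScalarTower A B C] [Algebra.FinitePresentation A B]
    [Algebra.FinitePresentation A C] (M : Type u) [AddCommGroup M] [Module C M]
    [Module.FinitePresentation C M] :
    IsConstructible {q : Spec (.of C) | FibFlatAt (Spec.map (CommRingCat.ofHom (algebraMap B C)))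
      (Spec.map (CommRingCat.ofHom (algebraMap A B))) (tilde (R := CommRingCat.of C) (ModuleCat.of C M)) q} := by
  classical
  obtain ⟨m, φA, hφA, ⟨GA, hGA⟩⟩ := Algebra.FinitePresentation.out (R := A) (A := B)
  obtain ⟨k, ψ, hψ, -⟩ := Algebra.FinitePresentation.out (R := A) (A := C)
  let φB : MvPolynomial (Fin (m + k)) A →ₐ[A] C := MvPolynomial.aeval
    (Fin.append (fun i => algebraMap B C (φA (MvPolynomial.X i))) fun j => ψ (MvPolynomial.X j))
  have hA : φB.comp (MvPolynomial.rename (Fin.castAdd k)) =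
      (IsScalarTower.toAlgHom A B C).comp φA := by
    refine MvPolynomial.algHom_ext fun i => ?_
    simp [φB]
  have hB : φB.comp (MvPolynomial.rename (Fin.natAdd m)) = ψ := by
    refine MvPolynomial.algHom_ext fun i => ?_
    simp [φB]
  have hφB : Function.Surjective φB := fun b => by
    obtain ⟨p, rfl⟩ := hψ b
    exact ⟨_, congrFun (congrArg DFunLike.coe hB) p⟩
  obtain ⟨GB, hGB⟩ := Algebra.FinitePresentation.ker_fG_of_surjective φB hφB
  let G : Finset (MvPolynomial (Fin (m + k)) A) := GB ∪ GA.image (MvPolynomial.rename (Fin.castAdd k))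
  have hG : RingHom.ker φB.toRingHom = Ideal.span (G : Set (MvPolynomial (Fin (m + k)) A)) := by
    rw [Finset.coe_union, Ideal.span_union, hGB, eq_comm, sup_eq_left, Ideal.span_le]
    intro p hp
    obtain ⟨q, hq, rfl⟩ := Finset.mem_image.mp hp
    have h0 : φA q = 0 := (hGA.le (Ideal.subset_span hq) : q ∈ RingHom.ker φA)
    show φB (MvPolynomial.rename _ q) = 0
    rw [show φB (MvPolynomial.rename _ q) = algebraMap B C (φA q) from
      congrFun (congrArg DFunLike.coe hA) q, h0, map_zero]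
  obtain ⟨r, n, π, g, hπ, hπg⟩ := Module.FinitePresentation.exists_fin' C M
  choose P hP using fun (i : Fin n) (j : Fin r) => hφB (g (Pi.single i 1) j)
  let T : Finset A := GA.biUnion MvPolynomial.coeffs ∪ G.biUnion MvPolynomial.coeffs ∪
    Finset.univ.biUnion fun i => Finset.univ.biUnion fun j => (P i j).coeffs
  let R₀ := Algebra.adjoin ℤ (T : Set A)
  haveI : IsNoetherianRing R₀ := isNoetherianRing_stage (Subalgebra.fg_adjoin_finset T)
  have hin : ∀ {d : ℕ} (p : MvPolynomial (Fin d) A), p.coeffs ⊆ T → p ∈ Set.range (incl R₀) :=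
    fun p hp => MvPolynomial.mem_range_map_iff_coeffs_subset.2 fun a ha =>
      ⟨⟨a, Algebra.subset_adjoin (Finset.mem_coe.2 (hp ha))⟩, rfl⟩
  have hGR : (G : Set (MvPolynomial (Fin (m + k)) A)) ⊆ Set.range (incl R₀) := fun p hp =>
    hin p fun a ha => Finset.mem_union_left _ (Finset.mem_union_right _ (Finset.mem_biUnion.2 ⟨p, hp, ha⟩))
  have hGAR : (GA : Set (MvPolynomial (Fin m) A)) ⊆ Set.range (incl R₀) := fun p hp =>
    hin p fun a ha => Finset.mem_union_left _ (Finset.mem_union_left _ (Finset.mem_biUnion.2 ⟨p, hp, ha⟩))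
  choose P₀ hP₀ using fun i j => hin (P i j) fun a ha => Finset.mem_union_right _
    (Finset.mem_biUnion.2 ⟨i, Finset.mem_univ i, Finset.mem_biUnion.2 ⟨j, Finset.mem_univ j, ha⟩⟩)
  let NA := stageIdeal (GA : Set (MvPolynomial (Fin m) A)) R₀
  let NB := stageIdeal (G : Set (MvPolynomial (Fin (m + k)) A)) R₀
  let B₀ := MvPolynomial (Fin m) R₀ ⧸ NA
  let C₀ := MvPolynomial (Fin (m + k)) R₀ ⧸ NB
  have hren : ∀ p : MvPolynomial (Fin m) R₀,
      incl R₀ (MvPolynomial.rename (Fin.castAdd k) p) = MvPolynomial.rename (Fin.castAdd k) (incl R₀ p) :=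
    fun p => MvPolynomial.map_rename _ _ _
  let θ : B₀ →ₐ[R₀] C₀ := Ideal.Quotient.liftₐ NA
    ((Ideal.Quotient.mkₐ R₀ NB).comp (MvPolynomial.rename (Fin.castAdd k))) fun p hp => by
      refine (Ideal.span_le (I := RingHom.ker (((Ideal.Quotient.mkₐ R₀ NB).comp
        (MvPolynomial.rename (Fin.castAdd k))).toRingHom))).mpr ?_ hp
      intro q hq
      refine Ideal.Quotient.eq_zero_iff_mem.mpr (Ideal.subset_span ?_)
      show incl R₀ (MvPolynomial.rename (Fin.castAdd k) q) ∈ (G : Set _)
      rw [hren]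
      exact Finset.mem_coe.2 (Finset.mem_union_right _ (Finset.mem_image.2 ⟨_, hq, rfl⟩))
  let uA : B₀ →+* B := Ideal.Quotient.lift NA (φA.toRingHom.comp (incl R₀)) fun p hp => by
    refine (Ideal.span_le (I := RingHom.ker (φA.toRingHom.comp (incl R₀)))).mpr ?_ hp
    intro q hq
    exact hGA.le (Ideal.subset_span hq)
  let uB : C₀ →+* C := Ideal.Quotient.lift NB (φB.toRingHom.comp (incl R₀)) fun p hp => by
    refine (Ideal.span_le (I := RingHom.ker (φB.toRingHom.comp (incl R₀)))).mpr ?_ hp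
    intro q hq
    exact hG.ge (Ideal.subset_span hq)
  letI : Algebra B₀ B := uA.toAlgebra
  letI : Algebra C₀ C := uB.toAlgebra
  haveI : IsScalarTower R₀ B₀ B := IsScalarTower.of_algebraMap_eq (R := R₀) (S := B₀) (A := B) fun a => by
    show algebraMap A B (a : A) = φA (incl R₀ (MvPolynomial.C a))
    rw [show incl R₀ (MvPolynomial.C a) = MvPolynomial.C (a : A) from MvPolynomial.map_C _ a]
    exact (φA.commutes _).symm
  haveI : IsScalarTower R₀ C₀ C := IsScalarTower.of_algebraMap_eq (R := R₀) (S := C₀) (A := C) fun a => by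
    show algebraMap A C (a : A) = φB (incl R₀ (MvPolynomial.C a))
    rw [show incl R₀ (MvPolynomial.C a) = MvPolynomial.C (a : A) from MvPolynomial.map_C _ a]
    exact (φB.commutes _).symm
  have hN : ∀ {d : ℕ} (H : Set (MvPolynomial (Fin d) A)), H ⊆ Set.range (incl R₀) →
      Ideal.span H ≤ (stageIdeal H R₀).map (incl R₀) := fun H hH => by
    rw [Ideal.span_le]
    intro p hp
    obtain ⟨q, rfl⟩ := hH hp
    exact Ideal.mem_map_of_mem _ (Ideal.subset_span hp)
  haveI : Algebra.IsPushout R₀ A B₀ B :=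
    H8Props.FibreCriterion.isPushout_model φA hφA NA (hGA.ge.trans (hN _ hGAR)) fun _ => rfl
  haveI : Algebra.IsPushout R₀ A C₀ C :=
    H8Props.FibreCriterion.isPushout_model φB hφB NB (hG.le.trans (hN _ hGR)) fun _ => rfl
  have hcompat : uB.comp θ.toRingHom = (algebraMap B C).comp uA := by
    refine Ideal.Quotient.ringHom_ext (RingHom.ext fun p => ?_)
    show φB (incl R₀ (MvPolynomial.rename (Fin.castAdd k) p)) = algebraMap B C (φA (incl R₀ p))
    rw [hren]
    exact congrFun (congrArg DFunLike.coe hA) _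
  refine @isConstructible_of_model R₀ (MvPolynomial (Fin m) R₀ ⧸ NA) (MvPolynomial (Fin (m + k)) R₀ ⧸ NB)
    A B C _ _ _ _ _ _ _ _ _ ?_ ?_ _ _ _ _ _ _ _ uA.toAlgebra uB.toAlgebra _ _ _ _ _ _ θ hcompat r n M _ _
    π g hπ hπg (fun i j => Ideal.Quotient.mk NB (P₀ i j)) fun i j => ?_
  · infer_instance
  · infer_instance
  · refine Eq.trans (show _ = φB (incl R₀ (P₀ i j)) from rfl) ?_
    rw [hP₀]
    exact hP i j

end Groth.Agent.H06EGA9
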