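import Groth.Agent.H06EGA9.FlatLocallyConstructible
import Groth.Agent.H8Props.FlatApproxAffine
import Groth.Agent.H06EGA9.UnramifiedLocus

/-!
# Locally constructible loci of points defined on fibres (method of EGA IV 9.2)
-/

set_option autoImplicit false
set_option linter.style.haveILetI false
universe u

open CategoryTheory CategoryTheory.Limits AlgebraicGeometry TopologicalSpace Topology Set

namespace Groth.Agent.H06EGA9

/-- A point locus which is invariant under base change, local on the source and generically open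
over integral Noetherian bases is constructible over a Noetherian base. -/
theorem isConstructible_pointLocus (P : ∀ ⦃X S : Scheme.{u}⦄, (X ⟶ S) → Set X)
    (hbc : ∀ {X S X' S' : Scheme.{u}} {g' : X' ⟶ X} {f' : X' ⟶ S'} {f : X ⟶ S} {g : S' ⟶ S},
      IsPullback g' f' f g → LocallyOfFinitePresentation f → ∀ x', x' ∈ P f' ↔ g' x' ∈ P f)
    (hgen : ∀ {X T : Scheme.{u}} (f : X ⟶ T) [IsIntegral T] [IsNoetherian T] [QuasiCompact f]
      [LocallyOfFinitePresentation f],
      ∃ V : T.Opens, genericPoint T ∈ V ∧ IsOpen (P f ∩ f ⁻¹' V))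
    {X S : Scheme.{u}} (f : X ⟶ S) [IsNoetherian S] [LocallyOfFiniteType f] [QuasiCompact f] :
    IsConstructible (P f) := by
  haveI := H17.ConsProp.isNoetherian_of_finiteType f
  haveI : LocallyOfFinitePresentation f := H12AlgSp.lfp_of_lft_of_isLocallyNoetherian f
  refine H28Top.isConstructible_of_forall_irreducible fun Z hZ hi hd => ?_
  set η := hi.genericPoint
  have hη : IsGenericPoint η Z := hi.isGenericPoint_genericPoint hZ
  obtain ⟨T, i, _, _, _, hr⟩ := H17.ConsProp.exists_integral_closed (closure {f η})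
    isClosed_closure isIrreducible_singleton.closure
  have hg := IsPullback.of_hasPullback f i
  haveI : LocallyOfFinitePresentation (pullback.snd f i) := MorphismProperty.of_isPullback hg ‹_›
  haveI : QuasiCompact (pullback.snd f i) := MorphismProperty.of_isPullback hg ‹_›
  haveI : IsClosedImmersion (pullback.fst f i) := MorphismProperty.of_isPullback hg.flip ‹_›
  obtain ⟨V, hηV, hV⟩ := hgen (pullback.snd f i)
  obtain ⟨V', hV', hVV'⟩ := i.isEmbedding.isInducing.isOpen_iff.1 V.2
  set jX := pullback.fst f i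
  set fT := pullback.snd f i
  obtain ⟨U, hUo, hU⟩ := jX.isEmbedding.isInducing.isOpen_iff.1 hV
  have hcomm : ∀ w, f (jX w) = i (fT w) := fun w => by
    rw [← Scheme.Hom.comp_apply, ← Scheme.Hom.comp_apply, hg.w]
  have hlift : ∀ w ∈ Z, ∃ w', jX w' = w := fun w hw => by
    obtain ⟨t, ht⟩ := hr.ge (((hη.specializes hw).map f.continuous).mem_closure)
    obtain ⟨w', hw', -⟩ := Scheme.exists_preimage_of_isPullback hg w t ht.symm
    exact ⟨w', hw'⟩
  have hηV' : f η ∈ V' := by
    obtain ⟨t, ht⟩ := hr.ge (subset_closure rfl)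
    rw [← ht]
    have : genericPoint T = t := by
      refine (genericPoint_spec T).eq (Set.eq_univ_of_forall fun w => ?_)
      refine (i.isEmbedding.isInducing.specializes_iff.1 ?_).mem_closure
      rw [ht]
      exact specializes_iff_mem_closure.mpr (hr.subset (mem_range_self w))
    exact (hVV'.ge (this ▸ hηV) : t ∈ i ⁻¹' V')
  refine ⟨U ∩ f ⁻¹' V', hUo.inter (hV'.preimage f.continuous), ?_, ?_⟩
  · obtain ⟨e, heV, heE, heZ⟩ := mem_closure_iff.1 (hd hη.mem) _ (hV'.preimage f.continuous) hηV'
    obtain ⟨e', rfl⟩ := hlift e heZ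
    have he' : fT e' ∈ V := hVV'.le (show i (fT e') ∈ V' by rw [← hcomm]; exact heV)
    exact ⟨jX e', ⟨hU.ge ⟨(hbc hg ‹_› e').2 heE, he'⟩, heV⟩, heZ⟩
  · rintro w ⟨⟨hwU, hwV⟩, hwZ⟩
    obtain ⟨w', rfl⟩ := hlift w hwZ
    exact (hbc hg ‹_› w').1 (hU.le hwU).1

/-- A point locus which is invariant under base change, local on the source and generically open
over integral Noetherian bases is locally constructible. -/
theorem isLocallyConstructible_pointLocus (P : ∀ ⦃X S : Scheme.{u}⦄, (X ⟶ S) → Set X)
    (hbc : ∀ {X S X' S' : Scheme.{u}} {g' : X' ⟶ X} {f' : X' ⟶ S'} {f : X ⟶ S} {g : S' ⟶ S},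
      IsPullback g' f' f g → LocallyOfFinitePresentation f → ∀ x', x' ∈ P f' ↔ g' x' ∈ P f)
    (hsrc : ∀ {U X S : Scheme.{u}} (a : U ⟶ X) [IsOpenImmersion a] (f : X ⟶ S)
      [LocallyOfFinitePresentation f] (z : U), z ∈ P (a ≫ f) ↔ a z ∈ P f)
    (hgen : ∀ {X T : Scheme.{u}} (f : X ⟶ T) [IsIntegral T] [IsNoetherian T] [QuasiCompact f]
      [LocallyOfFinitePresentation f],
      ∃ V : T.Opens, genericPoint T ∈ V ∧ IsOpen (P f ∩ f ⁻¹' V))
    {X S : Scheme.{u}} (f : X ⟶ S) [LocallyOfFinitePresentation f] :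
    IsLocallyConstructible (P f) := by
  refine isLocallyConstructible_of_charts fun x => ?_
  obtain ⟨R, A, _, _, _, a, b, _, _, hx, w⟩ := exists_affine_chart f x
  have := H17.LocusBC.finitePresentation_of_chart f a b w
  refine ⟨_, a, ‹_›, hx, ?_⟩
  let φ := Spec.map (CommRingCat.ofHom (algebraMap R A))
  have hab := IsPullback.of_hasPullback f b
  let l : Spec (.of A) ⟶ pullback f b := pullback.lift a φ w.symm
  haveI : IsOpenImmersion (l ≫ pullback.fst f b) := by rw [pullback.lift_fst]; infer_instance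
  haveI : IsOpenImmersion l := IsOpenImmersion.of_comp l (pullback.fst f b)
  haveI : LocallyOfFinitePresentation (pullback.snd f b) := MorphismProperty.of_isPullback hab ‹_›
  have hpre : a ⁻¹' P f = P φ := by
    ext z
    have h1 := hsrc l (pullback.snd f b) z
    rw [pullback.lift_snd] at h1
    refine (h1.trans ((hbc hab ‹_› (l z)).trans ?_)).symm
    rw [← Scheme.Hom.comp_apply, pullback.lift_fst]
    rfl
  rw [hpre]
  obtain ⟨R₀, B₀, _, _, _, _, g', hR₀, _, hsq⟩ := H8Props.FlatApprox.exists_isPullback_spec_fp R A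
  haveI : IsNoetherianRing R₀ := Algebra.FiniteType.isNoetherianRing ℤ R₀
  haveI : IsNoetherianRing (CommRingCat.of R₀) := ‹IsNoetherianRing R₀›
  haveI : LocallyOfFinitePresentation (Spec.map (CommRingCat.ofHom (algebraMap R₀ B₀))) :=
    (HasRingHomProperty.Spec_iff (P := @LocallyOfFinitePresentation)).mpr
      (RingHom.finitePresentation_algebraMap.mpr inferInstance)
  convert Scheme.Hom.isConstructible_preimage g'
    (isConstructible_pointLocus P hbc hgen (Spec.map (CommRingCat.ofHom (algebraMap R₀ B₀)))) using 1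
  ext z
  exact hbc hsq ‹_› z

end Groth.Agent.H06EGA9
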